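import Cfsg.Agent.Lib.SLComm.Top

/-! The general criterion for a sum of companion blocks to be a commutator. -/

set_option autoImplicit false

namespace CfsgLib.SLComm

open Module Polynomial CfsgLib.ClassNum

variable {F : Type*} [Field F]

/-- A companion block splits as top plus corner. -/
theorem exists_split {p R : F[X]} (hp : p.Monic) (hR : R.Monic) (hdeg : p.natDegree = R.natDegree + 1) :
    ∃ e : (AdjoinRoot R × F) ≃ₗ[F] AdjoinRoot p, ∀ x, xi p (e x) =
      e (xi R x.1 + x.2 • qVec p R, rhoRow hR x.1 + omega' p R * x.2) := by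
  have := finiteDimensional_adjoinRoot hp
  have := finiteDimensional_adjoinRoot hR
  let pre : (AdjoinRoot R × F) →ₗ[F] F[X] :=
    (rep hR).comp (LinearMap.fst F _ F) +
      ((LinearMap.id : F →ₗ[F] F).smulRight R).comp (LinearMap.snd F (AdjoinRoot R) F)
  have hpre : ∀ x, pre x = rep hR x.1 + C x.2 * R := by
    intro x
    simp [pre, smul_eq_C_mul]
  let Φ : (AdjoinRoot R × F) →ₗ[F] AdjoinRoot p := (AdjoinRoot.mkₐ p).toLinearMap.comp pre
  have hΦ : ∀ x, Φ x = AdjoinRoot.mk p (rep hR x.1 + C x.2 * R) := fun x => by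
    rw [← hpre]; rfl
  have hinj : Function.Injective Φ := by
    rw [← LinearMap.ker_eq_bot, Submodule.eq_bot_iff]
    intro x hx
    rw [LinearMap.mem_ker, hΦ, AdjoinRoot.mk_eq_zero] at hx
    have hdlt : (rep hR x.1 + C x.2 * R).degree < p.degree := by
      refine lt_of_le_of_lt (degree_add_le _ _) (max_lt ?_ ?_)
      · refine lt_trans (degree_rep_lt hR x.1) ?_
        rw [degree_eq_natDegree hR.ne_zero, degree_eq_natDegree hp.ne_zero, hdeg]
        exact_mod_cast Nat.lt_succ_self _
      · refine lt_of_le_of_lt ((degree_mul_le _ _).trans (add_le_add degree_C_le le_rfl)) ?_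
        rw [zero_add]
        rw [degree_eq_natDegree hR.ne_zero, degree_eq_natDegree hp.ne_zero, hdeg]
        exact_mod_cast Nat.lt_succ_self _
    have h0 : rep hR x.1 + C x.2 * R = 0 := eq_zero_of_dvd_of_degree_lt hx hdlt
    have h2 : x.2 = 0 := by
      have h := congrArg (fun f : F[X] => f.coeff R.natDegree) h0
      simp only [coeff_add, coeff_C_mul, hR.coeff_natDegree, mul_one, coeff_zero] at h
      rcases natDegree_eq_coeff_rep hR x.1 with hz | hz
      · simpa [hz] using h
      · rwa [coeff_eq_zero_of_natDegree_lt hz, zero_add] at h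
    rw [h2, map_zero, zero_mul, add_zero] at h0
    exact Prod.ext (by rw [← mk_rep hR x.1, h0, map_zero]; rfl) h2
  have hd : finrank F (AdjoinRoot R × F) = finrank F (AdjoinRoot p) := by
    rw [finrank_prod, finrank_adjoinRoot hR, finrank_adjoinRoot hp, finrank_self, hdeg]
  refine ⟨LinearEquiv.ofBijective Φ
    ⟨hinj, (LinearMap.injective_iff_surjective_of_finrank_eq_finrank hd).1 hinj⟩, fun x => ?_⟩
  show xi p (Φ x) = Φ _
  rw [hΦ, hΦ, mulBy_apply, ← map_mul]
  have h1 := X_mul_rep hR x.1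
  have h2 := X_mul_R hp hR hdeg
  simp only [map_add, map_smul, smul_eq_C_mul, map_mul]
  have hgoal : X * (rep hR x.1 + C x.2 * R) = rep hR (xi R x.1) + C x.2 * rep hR (qVec p R) +
      (C (rhoRow hR x.1) + C (omega' p R) * C x.2) * R + C x.2 * p := by
    linear_combination h1 + C x.2 * h2
  calc AdjoinRoot.mk p X * (AdjoinRoot.mk p (rep hR x.1) + AdjoinRoot.mk p (C x.2) * AdjoinRoot.mk p R)
      = AdjoinRoot.mk p (X * (rep hR x.1 + C x.2 * R)) := by simp only [map_mul, map_add]
    _ = _ := by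
        rw [hgoal, map_add, map_mul (AdjoinRoot.mk p) (C x.2) p, AdjoinRoot.mk_self, mul_zero, add_zero]
        simp only [map_add, map_mul]

theorem exists_schur {p R : F[X]} (hp : p.Monic) (hR : R.Monic) (hdeg : p.natDegree = R.natDegree + 1)
    (hR0 : R.coeff 0 ≠ 0) :
    ∃ v : AdjoinRoot R, xi R v = qVec p R ∧ rhoRow hR v + -(p.coeff 0) / R.coeff 0 = omega' p R := by
  refine ⟨AdjoinRoot.mk R (R - p.divX + C (p.coeff 0 / R.coeff 0) * R.divX), ?_, ?_⟩
  · rw [mulBy_apply, ← map_mul, qVec, AdjoinRoot.mk_eq_mk]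
    refine ⟨X + C (p.coeff 0 / R.coeff 0), ?_⟩
    have h1 := X_mul_divX_add p
    have h2 := X_mul_divX_add R
    have h3 : C (p.coeff 0 / R.coeff 0) * C (R.coeff 0) = C (p.coeff 0) := by
      rw [← C_mul, div_mul_cancel₀ _ hR0]
    linear_combination (-1 : F[X]) * h1 + C (p.coeff 0 / R.coeff 0) * h2 - h3
  · have hdX : ∀ k, (R.divX).coeff k = R.coeff (k + 1) := fun k => coeff_divX
    have hlt : (R - p.divX + C (p.coeff 0 / R.coeff 0) * R.divX).degree < R.degree := by
      refine degree_lt_of_coeff hR fun k hk => ?_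
      rw [coeff_add, coeff_sub, coeff_C_mul, coeff_divX, coeff_divX,
        coeff_eq_zero_of_natDegree_lt (show R.natDegree < k + 1 by omega)]
      rcases Nat.eq_or_lt_of_le hk with h | h
      · subst h
        rw [hR.coeff_natDegree, ← hdeg, hp.coeff_natDegree]; simp
      · rw [coeff_eq_zero_of_natDegree_lt h, coeff_eq_zero_of_natDegree_lt (show p.natDegree < k + 1 by omega)]
        simp
    show (rep hR (AdjoinRoot.mk R _)).coeff (R.natDegree - 1) + _ = _
    rw [rep_mk, (modByMonic_eq_self_iff hR).2 hlt, omega', nextCoeff_of_natDegree_pos (p := p) (by omega),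
      hdeg, Nat.add_sub_cancel]
    rcases Nat.eq_zero_or_pos R.natDegree with h0 | h0
    · have hR1 : R = 1 := hR.natDegree_eq_zero.1 h0
      have hp1 : p.coeff 1 = 1 := by
        have h := hp.coeff_natDegree
        rwa [hdeg, h0] at h
      simp [hR1, nextCoeff, hp1, coeff_one]
    · rw [nextCoeff_of_natDegree_pos h0, coeff_add, coeff_sub, coeff_C_mul, coeff_divX, coeff_divX,
        Nat.sub_add_cancel h0, hR.coeff_natDegree]
      ring

variable {ι : Type*} [Fintype ι]

/-- The diagonal of Schur complements. -/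
noncomputable def schurDiag (p R : ι → F[X]) : Module.End F (ι → F) :=
  piEnd fun i => (-((p i).coeff 0) / (R i).coeff 0) • LinearMap.id

omit [Fintype ι] in
theorem schurDiag_apply (p R : ι → F[X]) (y : ι → F) (i : ι) :
    schurDiag p R y i = (-((p i).coeff 0) / (R i).coeff 0) * y i := rfl

/-- The main criterion. -/
theorem isComm_of_data (p R : ι → F[X]) (hp : ∀ i, (p i).Monic) (hR : ∀ i, (R i).Monic)
    (hdeg : ∀ i, (p i).natDegree = (R i).natDegree + 1) (hR0 : ∀ i, (R i).coeff 0 ≠ 0)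
    (X1 Z1 : Module.End F (Π i, AdjoinRoot (R i))) (w1 : (Π i, AdjoinRoot (R i)) ≃ₗ[F] Π i, AdjoinRoot (R i))
    (hP : piEnd (fun i => xi (R i)) = X1 * Z1) (h1 : ∀ x, Z1 (w1 (X1 x)) = w1 x)
    (X2 Z2 : Module.End F (ι → F)) (w2 : (ι → F) ≃ₗ[F] (ι → F))
    (hD : schurDiag p R = X2 * Z2) (h2 : ∀ x, Z2 (w2 (X2 x)) = w2 x)
    (ψ : F[X]) (hψ1 : Function.Bijective (aeval X1 ψ)) (hψ2 : aeval X2 ψ = 0)
    (hdet : LinearMap.det X1 * LinearMap.det X2 = 1)
    (hC : ∀ a : F, a ≠ 0 → ∃ C : Module.End F (ι → F), LinearMap.det C = a ∧ C * X2 = X2 * C) :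
    IsComm (piEnd fun i => xi (p i)) := by
  have := fun i => finiteDimensional_adjoinRoot (hR i)
  choose e he using fun i => exists_split (hp i) (hR i) (hdeg i)
  choose v hv hv' using fun i => exists_schur (hp i) (hR i) (hdeg i) (hR0 i)
  let T : ((Π i, AdjoinRoot (R i)) × (ι → F)) ≃ₗ[F] Π i, AdjoinRoot (p i) :=
    { toFun := fun x i => e i (x.1 i, x.2 i)
      map_add' := fun x y => funext fun i => (e i).map_add (x.1 i, x.2 i) (y.1 i, y.2 i)
      map_smul' := fun c x => funext fun i => (e i).map_smul c (x.1 i, x.2 i)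
      invFun := fun y => (fun i => ((e i).symm (y i)).1, fun i => ((e i).symm (y i)).2)
      left_inv := fun x => by simp
      right_inv := fun y => by simp }
  have hX1 : Function.Bijective X1 := by
    have hi : Function.Injective X1 := fun a b hab => by
      have := congrArg (fun v => Z1 (w1 v)) hab
      simpa [h1] using this
    exact ⟨hi, LinearMap.injective_iff_surjective.1 hi⟩
  have hZ1 : Function.Bijective Z1 := by
    have hs : Function.Surjective Z1 := fun y => ⟨w1 (X1 (w1.symm y)), by rw [h1, w1.apply_symm_apply]⟩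
    exact ⟨LinearMap.injective_iff_surjective.2 hs, hs⟩
  let Q : (ι → F) →ₗ[F] Π i, AdjoinRoot (R i) :=
    LinearMap.pi fun i => (LinearMap.proj i).smulRight (qVec (p i) (R i))
  let Rr : (Π i, AdjoinRoot (R i)) →ₗ[F] (ι → F) :=
    LinearMap.pi fun i => (rhoRow (hR i)).comp (LinearMap.proj i)
  let Z1e := LinearEquiv.ofBijective Z1 hZ1
  let X1e := LinearEquiv.ofBijective X1 hX1
  let E : (Π i, AdjoinRoot (R i)) →ₗ[F] (ι → F) := Rr.comp Z1e.symm.toLinearMap
  let M : (ι → F) →ₗ[F] Π i, AdjoinRoot (R i) := X1e.symm.toLinearMap.comp Q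
  refine (isComm_of_blocks X1 Z1 X2 Z2 w1 w2 h1 h2 ψ hψ1 hψ2 hdet hC E M).sim ⟨T, fun x => ?_⟩
  obtain ⟨x, y⟩ := x
  funext i
  have hXM : X1 (M y) = Q y := X1e.apply_symm_apply _
  have hEZ : ∀ z, E (Z1 z) = Rr z := fun z => congrArg Rr (Z1e.symm_apply_apply z)
  have hEM : E (M y) = fun i => rhoRow (hR i) (y i • v i) := by
    have hz : M y = Z1 (fun i => y i • v i) := by
      refine hX1.1 ?_
      rw [hXM, show X1 (Z1 (fun i => y i • v i)) = (X1 * Z1) (fun i => y i • v i) from rfl, ← hP]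
      funext i
      show y i • qVec (p i) (R i) = xi (R i) (y i • v i)
      rw [map_smul, hv]
    rw [hz, hEZ]
    rfl
  show e i (((lower X1 E X2 * upper Z1 M Z2) (x, y)).1 i, ((lower X1 E X2 * upper Z1 M Z2) (x, y)).2 i) =
    xi (p i) (e i (x i, y i))
  rw [he]
  congr 1
  refine Prod.ext ?_ ?_
  · show X1 (Z1 x + M y) i = xi (R i) (x i) + y i • qVec (p i) (R i)
    rw [map_add, hXM, Pi.add_apply, ← Module.End.mul_apply, ← hP]
    rfl
  · show (E (Z1 x + M y) + X2 (Z2 y)) i = rhoRow (hR i) (x i) + omega' (p i) (R i) * y i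
    rw [map_add, hEZ, hEM, ← Module.End.mul_apply, ← hD]
    show rhoRow (hR i) (x i) + rhoRow (hR i) (y i • v i) + schurDiag p R y i = _
    rw [schurDiag_apply, map_smul, smul_eq_mul, ← hv' i]
    ring

end CfsgLib.SLComm
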