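import Cfsg.Agent.Lib.SLComm.Top

/-! Chinese remainders, products, and determinants of centralizers. -/

set_option autoImplicit false

namespace CfsgLib.SLComm

open Module Polynomial CfsgLib.ClassNum

variable {F : Type*} [Field F]

theorem exists_crt {P Q : F[X]} (hP : P.Monic) (hQ : Q.Monic) (hco : IsCoprime P Q) :
    ∃ e : AdjoinRoot (P * Q) ≃ₗ[F] AdjoinRoot P × AdjoinRoot Q,
      ∀ f, e (AdjoinRoot.mk (P * Q) f) = (AdjoinRoot.mk P f, AdjoinRoot.mk Q f) := by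
  have hPQ := hP.mul hQ
  have := finiteDimensional_adjoinRoot hPQ
  have := finiteDimensional_adjoinRoot hP
  have := finiteDimensional_adjoinRoot hQ
  let Φ : AdjoinRoot (P * Q) →ₗ[F] AdjoinRoot P × AdjoinRoot Q :=
    ((AdjoinRoot.mkₐ P).toLinearMap.prod (AdjoinRoot.mkₐ Q).toLinearMap).comp (rep hPQ)
  have hΦ : ∀ f, Φ (AdjoinRoot.mk (P * Q) f) = (AdjoinRoot.mk P f, AdjoinRoot.mk Q f) := by
    intro f
    show (AdjoinRoot.mk P (rep hPQ _), AdjoinRoot.mk Q (rep hPQ _)) = _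
    rw [rep_mk]
    have h := modByMonic_eq_sub_mul_div (p := f) (q := P * Q)
    refine Prod.ext (AdjoinRoot.mk_eq_mk.2 ?_) (AdjoinRoot.mk_eq_mk.2 ?_)
    · exact ⟨-(Q * (f /ₘ (P * Q))), by rw [h]; ring⟩
    · exact ⟨-(P * (f /ₘ (P * Q))), by rw [h]; ring⟩
  have hinj : Function.Injective Φ := by
    rw [← LinearMap.ker_eq_bot, Submodule.eq_bot_iff]
    intro x hx
    obtain ⟨f, rfl⟩ := AdjoinRoot.mk_surjective x
    rw [LinearMap.mem_ker, hΦ, Prod.mk_eq_zero, AdjoinRoot.mk_eq_zero, AdjoinRoot.mk_eq_zero] at hx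
    exact AdjoinRoot.mk_eq_zero.2 (hco.mul_dvd hx.1 hx.2)
  have hd : finrank F (AdjoinRoot (P * Q)) = finrank F (AdjoinRoot P × AdjoinRoot Q) := by
    rw [finrank_prod, finrank_adjoinRoot hP, finrank_adjoinRoot hQ, finrank_adjoinRoot hPQ,
      hP.natDegree_mul hQ]
  exact ⟨LinearEquiv.ofBijective Φ
    ⟨hinj, (LinearMap.injective_iff_surjective_of_finrank_eq_finrank hd).1 hinj⟩, hΦ⟩

theorem sim_crt {P Q : F[X]} (hP : P.Monic) (hQ : Q.Monic) (hco : IsCoprime P Q) :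
    Sim (xi (P * Q)) ((xi P).prodMap (xi Q)) := by
  obtain ⟨e, he⟩ := exists_crt hP hQ hco
  refine ⟨e, fun x => ?_⟩
  obtain ⟨f, rfl⟩ := AdjoinRoot.mk_surjective x
  rw [mulBy_apply, ← map_mul, he, he, map_mul, map_mul]
  rfl

theorem norm_mk_mul {P Q : F[X]} (hP : P.Monic) (hQ : Q.Monic) (hco : IsCoprime P Q) (h : F[X]) :
    Algebra.norm F (AdjoinRoot.mk (P * Q) h) =
      Algebra.norm F (AdjoinRoot.mk P h) * Algebra.norm F (AdjoinRoot.mk Q h) := by
  have := finiteDimensional_adjoinRoot hP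
  have := finiteDimensional_adjoinRoot hQ
  obtain ⟨e, he⟩ := exists_crt hP hQ hco
  rw [← det_mulBy_eq_norm, ← det_mulBy_eq_norm, ← det_mulBy_eq_norm, ← LinearMap.det_prodMap]
  refine Sim.det_eq ⟨e, fun x => ?_⟩
  obtain ⟨f, rfl⟩ := AdjoinRoot.mk_surjective x
  rw [mulBy_apply, ← map_mul, he, he, map_mul, map_mul]
  rfl

variable [Finite F]

theorem norm_mk_surjective_of_irreducible {π : F[X]} (hπ : π.Monic) (hirr : Irreducible π) (a : F) :
    ∃ h : F[X], Algebra.norm F (AdjoinRoot.mk π h) = a := by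
  haveI := Fact.mk hirr
  haveI := finiteDimensional_adjoinRoot hπ
  haveI : Finite (AdjoinRoot π) := Module.finite_of_finite F
  obtain ⟨y, hy⟩ := FiniteField.norm_surjective F (AdjoinRoot π) a
  obtain ⟨h, rfl⟩ := AdjoinRoot.mk_surjective y
  exact ⟨h, hy⟩

/-- Norms from `F[X]/((π r)^e)` are surjective when `π` is irreducible, prime to `r`, and `e` is
prime to the order of the multiplicative group. -/
theorem exists_norm_eq {π r : F[X]} (hπ : π.Monic) (hr : r.Monic) (hirr : Irreducible π)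
    (hco : IsCoprime π r) (e : ℕ) (he : (Nat.card Fˣ).Coprime e) (a : F) (ha : a ≠ 0) :
    ∃ h : F[X], Algebra.norm F (AdjoinRoot.mk ((π * r) ^ e) h) = a := by
  obtain ⟨b, hb⟩ := (powCoprime he).surjective (Units.mk0 a ha)
  obtain ⟨h0, hh0⟩ := norm_mk_surjective_of_irreducible hπ hirr (b : F)
  obtain ⟨u, w, huw⟩ := hco
  refine ⟨h0 * (w * r) + u * π, ?_⟩
  rw [norm_mk_pow (hπ.mul hr), norm_mk_mul hπ hr ⟨u, w, huw⟩]
  have h1 : AdjoinRoot.mk π (h0 * (w * r) + u * π) = AdjoinRoot.mk π h0 := by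
    refine AdjoinRoot.mk_eq_mk.2 ⟨u - h0 * u, ?_⟩
    linear_combination h0 * huw
  have h2 : AdjoinRoot.mk r (h0 * (w * r) + u * π) = AdjoinRoot.mk r 1 := by
    refine AdjoinRoot.mk_eq_mk.2 ⟨h0 * w - w, ?_⟩
    linear_combination huw
  rw [h1, h2, hh0, map_one, map_one, mul_one]
  have h3 := congrArg Units.val hb
  rwa [powCoprime_apply, Units.val_pow_eq_pow_val, Units.val_mk0] at h3

theorem coprime_card_units_pow (p : ℕ) [Fact p.Prime] [CharP F p] (a : ℕ) :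
    (Nat.card Fˣ).Coprime (p ^ a) := by
  haveI := Fintype.ofFinite F
  obtain ⟨m, hp, hq⟩ := FiniteField.card F p
  refine Nat.Coprime.pow_right _ (Nat.Coprime.symm ((hp.coprime_iff_not_dvd).2 fun h => ?_))
  rw [Nat.card_units, Nat.card_eq_fintype_card, hq] at h
  have h1 : p ∣ p ^ (m : ℕ) := dvd_pow_self p m.ne_zero
  have h2 := Nat.dvd_sub h1 h
  rw [Nat.sub_sub_self (Nat.one_le_pow _ _ hp.pos)] at h2
  exact hp.one_lt.ne' (Nat.dvd_one.1 h2)

/-- Norms from `F[X]/(X^s - c)` are surjective. -/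
theorem exists_norm_X_pow_sub_C {s : ℕ} (hs : s ≠ 0) {c : F} (hc : c ≠ 0) (a : F) (ha : a ≠ 0) :
    ∃ h : F[X], Algebra.norm F (AdjoinRoot.mk (X ^ s - C c) h) = a := by
  obtain ⟨p, hp⟩ := CharP.exists F
  haveI : Fact p.Prime := ⟨CharP.char_is_prime F p⟩
  obtain ⟨k, s', hs', rfl⟩ := Nat.exists_eq_pow_mul_and_not_dvd hs p (Fact.out : p.Prime).ne_one
  obtain ⟨c', hc'⟩ := (powCoprime (coprime_card_units_pow (F := F) p k)).surjective (Units.mk0 c hc)
  have hc'' : (c' : F) ^ p ^ k = c := by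
    have h3 := congrArg Units.val hc'
    rwa [powCoprime_apply, Units.val_pow_eq_pow_val, Units.val_mk0] at h3
  have hs0 : s' ≠ 0 := fun h => hs (by rw [h, mul_zero])
  have hsep : (X ^ s' - C (c' : F)).Separable :=
    separable_X_pow_sub_C _ (fun h => hs' ((CharP.cast_eq_zero_iff F p s').1 h)) c'.ne_zero
  have hmon : (X ^ s' - C (c' : F)).Monic := monic_X_pow_sub_C _ hs0
  obtain ⟨π, hπ, hirr, r, hr⟩ := Polynomial.exists_monic_irreducible_factor (X ^ s' - C (c' : F))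
    (fun h => hs0 (by rw [← natDegree_X_pow_sub_C (n := s') (r := (c' : F))]; exact natDegree_eq_zero_of_isUnit h))
  have hrmon : r.Monic := hπ.of_mul_monic_left (hr ▸ hmon)
  have hco : IsCoprime π r := (hr ▸ hsep).isCoprime
  obtain ⟨h, hh⟩ := exists_norm_eq hπ hrmon hirr hco (p ^ k) (coprime_card_units_pow p k) a ha
  refine ⟨h, ?_⟩
  have heq : X ^ (p ^ k * s') - C c = (π * r) ^ p ^ k := by
    rw [← hr, sub_pow_char_pow, ← pow_mul, mul_comm s', ← hc'', C_pow]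
  rw [heq]; exact hh

end CfsgLib.SLComm
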