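import Cfsg.Agent.Lib.SLComm.Blocks
import Cfsg.Agent.Lib.SLComm.Crt

/-! A scalar times a transvection is a commutator. -/

set_option autoImplicit false

namespace CfsgLib.SLComm

open Module Polynomial CfsgLib.ClassNum

variable {F : Type*} [Field F]

/-- Normal form of a square-zero endomorphism of rank one. -/
theorem exists_rank_one_form {V : Type*} [AddCommGroup V] [Module F V] [FiniteDimensional F V]
    (θ : V →ₗ[F] F) (w : V) (hθ : θ ≠ 0) (hw : w ≠ 0) (h0 : θ w = 0) :
    2 ≤ finrank F V ∧ ∃ e : V ≃ₗ[F] (F × F) × (Fin (finrank F V - 2) → F),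
      ∀ x, e (θ x • w) = ((0, (e x).1.1), 0) := by
  classical
  obtain ⟨u', hu'⟩ := DFunLike.ne_iff.1 hθ
  rw [LinearMap.zero_apply] at hu'
  obtain ⟨η', hη'⟩ : ∃ η' : V →ₗ[F] F, η' w = 1 := by
    obtain ⟨φ, hφ⟩ : ∃ φ : Module.Dual F V, φ w ≠ 0 := by
      by_contra hne
      push Not at hne
      exact hw ((Module.forall_dual_apply_eq_zero_iff F w).mp hne)
    exact ⟨(φ w)⁻¹ • φ, inv_mul_cancel₀ hφ⟩
  obtain ⟨u, hu⟩ : ∃ u, θ u = 1 := ⟨(θ u')⁻¹ • u', by rw [map_smul, smul_eq_mul, inv_mul_cancel₀ hu']⟩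
  let η : V →ₗ[F] F := η' - η' u • θ
  have hηw : η w = 1 := by simp [η, hη', h0]
  have hηu : η u = 0 := by simp [η, hu]
  let K : Submodule F V := LinearMap.ker θ ⊓ LinearMap.ker η
  let e1 : V ≃ₗ[F] (F × F) × K :=
    { toFun := fun x => ((θ x, η x), ⟨x - θ x • u - η x • w, by
        simp [K, hu, h0, hηu, hηw]⟩)
      map_add' := fun x y => by
        refine Prod.ext (Prod.ext (map_add θ x y) (map_add η x y)) (Subtype.ext ?_)
        simp [add_smul]; abel
      map_smul' := fun c x => by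
        refine Prod.ext (Prod.ext (map_smul θ c x) (map_smul η c x)) (Subtype.ext ?_)
        simp [smul_sub, smul_smul]
      invFun := fun p => p.1.1 • u + p.1.2 • w + (p.2 : V)
      left_inv := fun x => by simp
      right_inv := fun p => by
        obtain ⟨⟨a, b⟩, ⟨k, hk1, hk2⟩⟩ := p
        rw [SetLike.mem_coe, LinearMap.mem_ker] at hk1 hk2
        refine Prod.ext (Prod.ext ?_ ?_) (Subtype.ext ?_) <;> simp [hu, h0, hηu, hηw, hk1, hk2]
        abel }
  have hdim : finrank F V = 2 + finrank F K := by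
    rw [e1.finrank_eq, finrank_prod, finrank_prod, finrank_self]
  obtain ⟨e2⟩ := FiniteDimensional.nonempty_linearEquiv_of_finrank_eq (R := F)
    (show finrank F K = finrank F (Fin (finrank F V - 2) → F) by rw [finrank_fin_fun]; omega)
  refine ⟨by omega, e1.trans ((LinearEquiv.refl F (F × F)).prodCongr e2), fun x => ?_⟩
  show ((θ (θ x • w), η (θ x • w)), e2 _) = ((0, θ x), 0)
  refine Prod.ext (Prod.ext ?_ ?_) ?_
  · simp [h0]
  · simp [hηw]
  · show e2 _ = 0
    rw [LinearEquiv.map_eq_zero_iff]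
    exact Subtype.ext (by simp [h0, hηw])

/-- Scalar plus rank one, up to similarity. -/
theorem sim_of_rank_one {V W : Type*} [AddCommGroup V] [Module F V] [FiniteDimensional F V]
    [AddCommGroup W] [Module F W] [FiniteDimensional F W] (hVW : finrank F V = finrank F W)
    (G : Module.End F V) (H : Module.End F W) (z : F)
    (θ : V →ₗ[F] F) (w : V) (hθ : θ ≠ 0) (hw : w ≠ 0) (h0 : θ w = 0) (hG : ∀ x, G x = z • x + θ x • w)
    (θ' : W →ₗ[F] F) (w' : W) (hθ' : θ' ≠ 0) (hw' : w' ≠ 0) (h0' : θ' w' = 0)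
    (hH : ∀ x, H x = z • x + θ' x • w') : Sim G H := by
  obtain ⟨-, e, he⟩ := exists_rank_one_form θ w hθ hw h0
  obtain ⟨-, e', he'⟩ := exists_rank_one_form θ' w' hθ' hw' h0'
  let c : ((F × F) × (Fin (finrank F V - 2) → F)) ≃ₗ[F] ((F × F) × (Fin (finrank F W - 2) → F)) :=
    (LinearEquiv.refl F (F × F)).prodCongr
      (LinearEquiv.funCongrLeft F F (finCongr (by rw [hVW])))
  refine ⟨(e.trans c).trans e'.symm, fun x => e'.injective ?_⟩
  rw [hH, hG]
  simp only [LinearEquiv.trans_apply, map_add, LinearEquiv.apply_symm_apply]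
  rw [he, he']
  simp only [map_smul, LinearEquiv.apply_symm_apply]
  congr 1

variable [Finite F]

theorem exists_perturb {n : ℕ} (hn : 3 ≤ n) (h3 : 3 ≤ Nat.card F) (z : F) (hz1 : z ≠ 1) (hzn : z ^ n = 1) :
    ∃ (f : F[X]) (G : Module.End F (AdjoinRoot f)) (θ : AdjoinRoot f →ₗ[F] F) (w : AdjoinRoot f),
      f.Monic ∧ f.natDegree = n ∧ θ ≠ 0 ∧ w ≠ 0 ∧ θ w = 0 ∧ (∀ x, G x = z • x + θ x • w) ∧ IsComm G := by
  classical
  haveI := Fintype.ofFinite F
  have hz0 : z ≠ 0 := by rintro rfl; rw [zero_pow (by omega)] at hzn; exact zero_ne_one hzn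
  obtain ⟨m, rfl⟩ : ∃ m, n = m + 1 := ⟨n - 1, by omega⟩
  set r0 : F := (-1) ^ m with hr0
  obtain ⟨ρ, hρ⟩ : ∃ ρ : F, ρ ≠ r0 ∧ ρ ≠ -1 - r0 := by
    by_contra hne
    push Not at hne
    have hsub : (Finset.univ : Finset F) ⊆ {r0, -1 - r0} := fun x _ => by
      by_cases hx : x = r0
      · simp [hx]
      · simp [hne x hx]
    have := le_trans (Finset.card_le_card hsub) Finset.card_le_two
    rw [Finset.card_univ, ← Nat.card_eq_fintype_card] at this
    omega
  set r : F[X] := X ^ m + (C ρ * X + C r0) with hr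
  have hrd : (C ρ * X + C r0).degree < (m : WithBot ℕ) :=
    lt_of_le_of_lt degree_linear_le (by exact_mod_cast (show 1 < m by omega))
  have hrmon : r.Monic := monic_X_pow_add hrd
  have hrdeg : r.natDegree = m := by
    apply natDegree_eq_of_degree_eq_some
    rw [hr, degree_add_eq_left_of_degree_lt (by rwa [degree_X_pow]), degree_X_pow]
  have hc0 : r.coeff 0 = r0 := by simp [hr, coeff_X_pow, show (0 : ℕ) ≠ m by omega]
  have hc1 : r.coeff 1 = ρ := by simp [hr, coeff_X_pow, show (1 : ℕ) ≠ m by omega]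
  have hπ : (X - C (1 : F)).Monic := monic_X_sub_C 1
  have hco : IsCoprime (X - C (1 : F)) r := by
    refine (irreducible_X_sub_C 1).coprime_iff_not_dvd.2 fun hd => ?_
    have h := dvd_iff_isRoot.1 hd
    simp [IsRoot, hr] at h
    exact hρ.2 (by linear_combination h)
  set f : F[X] := (X - C 1) * r with hf
  have hfmon : f.Monic := hπ.mul hrmon
  have hfdeg : f.natDegree = m + 1 := by
    rw [hf, hπ.natDegree_mul hrmon, natDegree_X_sub_C, hrdeg, add_comm]
  have hfexp : f = X * r - r := by rw [hf]; simp; ring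
  have hf0 : f.coeff 0 = -r0 := by simp [hfexp, hc0]
  have hf1 : f.coeff 1 ≠ 0 := by
    rw [hfexp, coeff_sub, coeff_X_mul, hc0, hc1]
    exact sub_ne_zero.2 hρ.1.symm
  have hf00 : f.coeff 0 ≠ 0 := by rw [hf0, hr0]; simp
  have := finiteDimensional_adjoinRoot hfmon
  let A : AdjoinRoot f ≃ₗ[F] AdjoinRoot f := LinearEquiv.ofBijective (xi f) (bijective_xi hfmon hf00)
  let scl : F → (AdjoinRoot f →ₗ[F] AdjoinRoot f) := fun c =>
    (AdjoinRoot.mkₐ f).toLinearMap.comp ((aeval (C c * X : F[X])).toLinearMap.comp (rep hfmon))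
  have hscl : ∀ (c : F) (g : F[X]), g.degree < f.degree →
      scl c (AdjoinRoot.mk f g) = AdjoinRoot.mk f (g.comp (C c * X)) := by
    intro c g hg
    show AdjoinRoot.mk f (aeval (C c * X : F[X]) (rep hfmon (AdjoinRoot.mk f g))) = _
    rw [rep_mk, (modByMonic_eq_self_iff hfmon).2 hg]
    rfl
  have hdeg : ∀ (c : F) (g : F[X]), g.degree < f.degree → (g.comp (C c * X)).degree < f.degree := by
    intro c g hg
    rcases eq_or_ne g 0 with rfl | hg0
    · simpa using hg
    rw [degree_eq_natDegree hfmon.ne_zero]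
    refine lt_of_le_of_lt degree_le_natDegree ?_
    have h1 := natDegree_lt_natDegree hg0 hg
    have h2 := natDegree_comp_le (p := g) (q := C c * X)
    have h3 : (C c * X).natDegree ≤ 1 := natDegree_C_mul_le c X |>.trans natDegree_X_le
    have h4 := Nat.mul_le_mul_left g.natDegree h3
    exact_mod_cast (show (g.comp (C c * X)).natDegree < f.natDegree by omega)
  have hinv : ∀ c d, c * d = 1 → ∀ x, scl d (scl c x) = x := by
    intro c d hcd x
    conv_rhs => rw [← mk_rep hfmon x]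
    conv_lhs => rw [← mk_rep hfmon x]
    rw [hscl c _ (degree_rep_lt hfmon x), hscl d _ (hdeg c _ (degree_rep_lt hfmon x)), comp_assoc]
    congr 1
    rw [mul_comp, C_comp, X_comp, ← mul_assoc, ← C_mul, hcd, C_1, one_mul, comp_X]
  let τ : AdjoinRoot f ≃ₗ[F] AdjoinRoot f :=
    { scl z with
      invFun := scl z⁻¹
      left_inv := hinv z z⁻¹ (mul_inv_cancel₀ hz0)
      right_inv := hinv z⁻¹ z (inv_mul_cancel₀ hz0) }
  let B : AdjoinRoot f ≃ₗ[F] AdjoinRoot f := τ.symm.trans (A.trans τ)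
  let G : Module.End F (AdjoinRoot f) := (B : Module.End F (AdjoinRoot f)) * (A.symm : Module.End F (AdjoinRoot f))
  have hGX : ∀ h : F[X], h.degree < f.degree →
      G (AdjoinRoot.mk f (X * h)) = τ (AdjoinRoot.mk f (X * h.comp (C z⁻¹ * X))) := by
    intro h hh
    have : A.symm (AdjoinRoot.mk f (X * h)) = AdjoinRoot.mk f h := by
      rw [LinearEquiv.symm_apply_eq]
      show _ = xi f _
      rw [mulBy_apply, map_mul]
    show B (A.symm _) = _
    rw [this]
    show τ (xi f (scl z⁻¹ (AdjoinRoot.mk f h))) = _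
    rw [hscl _ _ hh, mulBy_apply, ← map_mul]
  have hdegf : f.degree = ((m + 1 : ℕ) : WithBot ℕ) := by rw [degree_eq_natDegree hfmon.ne_zero, hfdeg]
  -- action on polynomials divisible by the variable
  have hGlow : ∀ h : F[X], (X * h).degree < f.degree →
      G (AdjoinRoot.mk f (X * h)) = z • AdjoinRoot.mk f (X * h) := by
    intro h hh
    have hh' : h.degree < f.degree := by
      rcases eq_or_ne h 0 with rfl | h0
      · rw [degree_zero, hdegf]; exact WithBot.bot_lt_coe _
      · refine lt_of_le_of_lt ?_ hh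
        rw [degree_mul, degree_X]
        nth_rewrite 1 [← zero_add h.degree]
        exact add_le_add zero_le_one le_rfl
    rw [hGX h hh']
    have e1 : X * h.comp (C z⁻¹ * X) = C z * (X * h).comp (C z⁻¹ * X) := by
      rw [mul_comp, X_comp, ← mul_assoc, ← mul_assoc, ← C_mul, mul_inv_cancel₀ hz0, C_1, one_mul]
    rw [e1, map_mul, AdjoinRoot.mk_C, ← AdjoinRoot.algebraMap_eq, ← Algebra.smul_def, map_smul]
    congr 1
    show scl z (AdjoinRoot.mk f _) = _
    have e2 : (C z⁻¹ * X).comp (C z * X) = X := by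
      rw [mul_comp, C_comp, X_comp, ← mul_assoc, ← C_mul, inv_mul_cancel₀ hz0, C_1, one_mul]
    rw [hscl z _ (hdeg _ _ hh), comp_assoc, e2, comp_X]
  let θ : AdjoinRoot f →ₗ[F] F := (lcoeff F 0).comp (rep hfmon)
  set w : AdjoinRoot f := G 1 - z • 1 with hw
  have hGform : ∀ x, G x = z • x + θ x • w := by
    intro x
    have hx : x = θ x • (1 : AdjoinRoot f) + AdjoinRoot.mk f (X * (rep hfmon x).divX) := by
      rw [Algebra.smul_def, mul_one, AdjoinRoot.algebraMap_eq, ← AdjoinRoot.mk_C, ← map_add]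
      conv_lhs => rw [← mk_rep hfmon x, ← X_mul_divX_add (rep hfmon x)]
      rw [add_comm]
      rfl
    have hlt : (X * (rep hfmon x).divX).degree < f.degree := by
      have : X * (rep hfmon x).divX = rep hfmon x - C ((rep hfmon x).coeff 0) := by
        conv_rhs => arg 1; rw [← X_mul_divX_add (rep hfmon x)]
        ring
      rw [this]
      refine lt_of_le_of_lt (degree_sub_le _ _) (max_lt (degree_rep_lt hfmon x) (lt_of_le_of_lt degree_C_le ?_))
      rw [hdegf]; exact_mod_cast m.succ_pos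
    conv_lhs => rw [hx, map_add, map_smul, hGlow _ hlt]
    conv_rhs => arg 1; rw [hx]
    rw [hw, smul_add, smul_sub, smul_comm z]
    abel
  -- the value at one
  set k : F[X] := C (-(f.coeff 0)⁻¹) * f.divX with hk
  have hkdeg : k.degree < f.degree := by
    refine lt_of_le_of_lt ((degree_mul_le _ _).trans (add_le_add degree_C_le le_rfl)) ?_
    rw [zero_add]
    exact degree_divX_lt hfmon.ne_zero
  have hone : (1 : AdjoinRoot f) = AdjoinRoot.mk f (X * k) := by
    rw [← map_one (AdjoinRoot.mk f), AdjoinRoot.mk_eq_mk]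
    refine ⟨C (f.coeff 0)⁻¹, ?_⟩
    have h1 := X_mul_divX_add f
    have h2 : C (f.coeff 0)⁻¹ * C (f.coeff 0) = 1 := by rw [← C_mul, inv_mul_cancel₀ hf00, C_1]
    rw [hk, C_neg]
    linear_combination C (f.coeff 0)⁻¹ * h1 - h2
  set l : F := -(f.coeff 0)⁻¹ * (z⁻¹) ^ m with hl
  set r' : F[X] := X * k.comp (C z⁻¹ * X) - C l * f with hr'
  have hr'deg : r'.degree < f.degree := by
    refine degree_lt_of_coeff hfmon fun i hi => ?_
    rw [hfdeg] at hi
    obtain ⟨j, rfl⟩ := Nat.exists_eq_add_of_le' (show 1 ≤ i by omega)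
    rw [hr', coeff_sub, coeff_X_mul, comp_C_mul_X_coeff, hk, coeff_C_mul, coeff_C_mul, coeff_divX]
    rcases Nat.eq_or_lt_of_le hi with h | h
    · have : j = m := by omega
      subst this
      rw [← hfdeg, hfmon.coeff_natDegree, hl]
      ring
    · rw [coeff_eq_zero_of_natDegree_lt (show f.natDegree < j + 1 by omega)]
      ring
  have hG1 : G 1 = AdjoinRoot.mk f (r'.comp (C z * X)) := by
    conv_lhs => rw [hone, hGX k hkdeg]
    have : AdjoinRoot.mk f (X * k.comp (C z⁻¹ * X)) = AdjoinRoot.mk f r' :=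
      AdjoinRoot.mk_eq_mk.2 ⟨C l, by rw [hr']; ring⟩
    rw [this]
    exact hscl z _ hr'deg
  have hrep : rep hfmon w = r'.comp (C z * X) - C z := by
    have hwm : w = AdjoinRoot.mk f (r'.comp (C z * X) - C z) := by
      rw [hw, hG1, map_sub, AdjoinRoot.mk_C, ← AdjoinRoot.algebraMap_eq, Algebra.smul_def, mul_one]
    rw [hwm, rep_mk, (modByMonic_eq_self_iff hfmon).2]
    refine lt_of_le_of_lt (degree_sub_le _ _) (max_lt (hdeg _ _ hr'deg) (lt_of_le_of_lt degree_C_le ?_))
    rw [hdegf]; exact_mod_cast m.succ_pos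
  have hzm : (z⁻¹) ^ m = z := by
    rw [inv_pow]
    exact inv_eq_of_mul_eq_one_right (by rw [← pow_succ, hzn])
  have hθw : θ w = 0 := by
    show (rep hfmon w).coeff 0 = 0
    rw [hrep, coeff_sub, comp_C_mul_X_coeff, coeff_C_zero, pow_zero, mul_one, hr', coeff_sub,
      coeff_X_mul_zero, coeff_C_mul, hl, hzm]
    field_simp
    ring
  have hw1 : (rep hfmon w).coeff 1 ≠ 0 := by
    have e3 : (X * k.comp (C z⁻¹ * X) : F[X]).coeff 1 = k.coeff 0 := by
      rw [coeff_X_mul, comp_C_mul_X_coeff, pow_zero, mul_one]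
    rw [hrep, coeff_sub, comp_C_mul_X_coeff, coeff_C, if_neg one_ne_zero, sub_zero, pow_one, hr', coeff_sub,
      coeff_C_mul, e3,
      hk, coeff_C_mul, coeff_divX, hl, hzm]
    have : (-(f.coeff 0)⁻¹ * f.coeff (0 + 1) - -(f.coeff 0)⁻¹ * z * f.coeff 1) * z =
        -(f.coeff 0)⁻¹ * f.coeff 1 * (1 - z) * z := by ring_nf
    rw [this]
    exact mul_ne_zero (mul_ne_zero (mul_ne_zero (neg_ne_zero.2 (inv_ne_zero hf00)) hf1)
      (sub_ne_zero.2 hz1.symm)) hz0
  refine ⟨f, G, θ, w, hfmon, hfdeg, fun h => ?_, fun h => hw1 (by rw [h, map_zero, coeff_zero]), hθw, hGform, ?_⟩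
  · have h1 := LinearMap.congr_fun h 1
    simp only [θ, LinearMap.comp_apply, LinearMap.zero_apply] at h1
    rw [← map_one (AdjoinRoot.mk f), rep_mk, (modByMonic_eq_self_iff hfmon).2] at h1
    · simp at h1
    · rw [degree_one, hdegf]; exact_mod_cast m.succ_pos
  · have hB : (B : Module.End F (AdjoinRoot f)) = τ.conj (xi f) := LinearMap.ext fun x => rfl
    refine isComm_of_mul G (B : Module.End F (AdjoinRoot f)) (A.symm : Module.End F (AdjoinRoot f)) τ.symm
      rfl ?_ (fun x => ?_) fun a ha => ?_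
    · rw [hB, det_conj', det_xi hfmon, hfdeg, hf0, hr0, pow_succ]
      rw [mul_assoc, neg_one_mul, neg_neg, ← mul_pow]
      simp
    · simp [B]
    · obtain ⟨h, hh⟩ := exists_norm_eq (e := 1) hπ hrmon (irreducible_X_sub_C 1) hco (Nat.coprime_one_right _) a ha
      rw [pow_one] at hh
      refine ⟨τ.conj (mulBy f h), by rw [det_conj', det_mulBy_eq_norm, hh], ?_⟩
      rw [hB, Module.End.mul_eq_comp, Module.End.mul_eq_comp, ← LinearEquiv.conj_comp, ← LinearEquiv.conj_comp]
      congr 1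
      refine LinearMap.ext fun x => ?_
      simp only [LinearMap.comp_apply, mulBy_apply]
      ring

end CfsgLib.SLComm
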