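import Cfsg.Agent.Lib.SLComm.Corner
import Cfsg.Agent.Lib.SLComm.Perturb

/-! The case analysis: every sum of companion blocks of determinant one is a commutator. -/

set_option autoImplicit false

namespace CfsgLib.SLComm

open Module Polynomial CfsgLib.ClassNum

variable {F : Type*} [Field F]

theorem Sim.finrank_eq {V W : Type*} [AddCommGroup V] [Module F V] [AddCommGroup W] [Module F W]
    {A : Module.End F V} {B : Module.End F W} (h : Sim A B) : finrank F V = finrank F W :=
  let ⟨e, _⟩ := h; e.finrank_eq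

section Sums

variable {V W U V' W' : Type*} [AddCommGroup V] [Module F V] [AddCommGroup W] [Module F W]
  [AddCommGroup U] [Module F U] [AddCommGroup V'] [Module F V'] [AddCommGroup W'] [Module F W']

theorem Sim.prod_congr {A : Module.End F V} {A' : Module.End F V'} {B : Module.End F W}
    {B' : Module.End F W'} (h : Sim A A') (h' : Sim B B') : Sim (A.prodMap B) (A'.prodMap B') := by
  obtain ⟨e, he⟩ := h
  obtain ⟨e', he'⟩ := h'
  exact ⟨e.prodCongr e', fun x => Prod.ext (he x.1) (he' x.2)⟩

theorem sim_prod_comm (A : Module.End F V) (B : Module.End F W) : Sim (A.prodMap B) (B.prodMap A) :=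
  ⟨LinearEquiv.prodComm F V W, fun _ => rfl⟩

theorem sim_prod_assoc (A : Module.End F V) (B : Module.End F W) (C : Module.End F U) :
    Sim (A.prodMap (B.prodMap C)) ((A.prodMap B).prodMap C) :=
  ⟨(LinearEquiv.prodAssoc F V W U).symm, fun _ => rfl⟩

variable {ι : Type*}

theorem sim_split [DecidableEq ι] {M : ι → Type*} [∀ i, AddCommGroup (M i)] [∀ i, Module F (M i)]
    (f : Π i, Module.End F (M i)) (a : ι) :
    Sim (piEnd f) ((f a).prodMap (piEnd fun j : {j : ι // j ≠ a} => f j)) :=
  ⟨{ Equiv.piSplitAt a M with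
      map_add' := fun _ _ => rfl
      map_smul' := fun _ _ => rfl }, fun _ => rfl⟩

theorem sim_option {M : Option ι → Type*} [∀ i, AddCommGroup (M i)] [∀ i, Module F (M i)]
    (f : Π i, Module.End F (M i)) :
    Sim (piEnd f) ((f none).prodMap (piEnd fun j : ι => f (some j))) :=
  ⟨{ toFun := fun x => (x none, fun j => x (some j))
     map_add' := fun _ _ => rfl
     map_smul' := fun _ _ => rfl
     invFun := fun x o => match o with
      | none => x.1
      | some j => x.2 j
     left_inv := fun x => funext fun o => by cases o <;> rfl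
     right_inv := fun _ => rfl }, fun _ => rfl⟩

end Sums

section Basic

theorem det_xi_pow (a : F) (d : ℕ) : LinearMap.det (xi ((X - C a) ^ d)) = a ^ d := by
  rw [det_xi ((monic_X_sub_C a).pow d), natDegree_pow, natDegree_X_sub_C, mul_one, coeff_zero_eq_eval_zero,
    eval_pow, eval_sub, eval_X, eval_C, ← mul_pow]
  congr 1
  ring

theorem det_xi_mul {P Q : F[X]} (hP : P.Monic) (hQ : Q.Monic) :
    LinearMap.det (xi (P * Q)) = LinearMap.det (xi P) * LinearMap.det (xi Q) := by
  rw [det_xi (hP.mul hQ), det_xi hP, det_xi hQ, hP.natDegree_mul hQ, mul_coeff_zero, pow_add]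
  ring

theorem coeff_zero_pow_ne {a : F} (ha : a ≠ 0) (d : ℕ) : ((X - C a) ^ d).coeff 0 ≠ 0 := by
  simp [coeff_zero_eq_eval_zero, ha]

theorem isCoprime_pow_of_eval {ψ : F[X]} {a : F} (h : ψ.eval a ≠ 0) (d : ℕ) :
    IsCoprime ψ ((X - C a) ^ d) :=
  (((irreducible_X_sub_C a).coprime_iff_not_dvd).2 fun hd => h (dvd_iff_isRoot.1 hd)).symm.pow_right

theorem eq_X_sub_C_of_monic {P : F[X]} (hP : P.Monic) (h : P.natDegree = 1) :
    P = X - C (-P.coeff 0) := by
  conv_lhs => rw [hP.eq_X_add_C h]
  rw [map_neg, sub_neg_eq_add]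

theorem exists_le_sum_eq {ι : Type*} (s : Finset ι) (d : ι → ℕ) :
    ∀ M, M ≤ ∑ i ∈ s, d i → ∃ μ : ι → ℕ, (∀ i, μ i ≤ d i) ∧ ∑ i ∈ s, μ i = M := by
  classical
  induction s using Finset.induction_on with
  | empty => intro M hM; exact ⟨fun _ => 0, fun i => Nat.zero_le _, by simp at hM ⊢; omega⟩
  | insert a s ha ih =>
    intro M hM
    rw [Finset.sum_insert ha] at hM
    obtain ⟨μ, hμ, hsum⟩ := ih (M - min M (d a)) (by omega)
    refine ⟨Function.update μ a (min M (d a)), fun i => ?_, ?_⟩
    · rcases eq_or_ne i a with rfl | hi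
      · simp
      · simpa [hi] using hμ i
    · rw [Finset.sum_insert ha, Function.update_self,
        Finset.sum_congr rfl fun i hi => Function.update_of_ne (ne_of_mem_of_not_mem hi ha) _ _, hsum]
      omega

theorem finrank_pi_adjoinRoot {ι : Type*} [Fintype ι] (p : ι → F[X]) (hp : ∀ i, (p i).Monic) :
    finrank F (Π i, AdjoinRoot (p i)) = ∑ i, (p i).natDegree := by
  have := fun i => finiteDimensional_adjoinRoot (hp i)
  rw [finrank_pi_fintype]
  exact Finset.sum_congr rfl fun i _ => finrank_adjoinRoot (hp i)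

end Basic

variable [Finite F] {ι : Type*} [Fintype ι]

/-- Good data. -/
structure Data (p : ι → F[X]) : Prop where
  monic : ∀ i, (p i).Monic
  pos : ∀ i, 0 < (p i).natDegree
  det : LinearMap.det (piEnd fun i => xi (p i)) = 1

variable {p : ι → F[X]}

omit [Finite F] in
theorem Data.prod_det (hD : Data p) : ∏ i, LinearMap.det (xi (p i)) = 1 := by
  have := fun i => finiteDimensional_adjoinRoot (hD.monic i)
  rw [← det_piEnd]; exact hD.det

omit [Finite F] in
theorem Data.sum_eq (hD : Data p) :
    ∑ i, (p i).natDegree = Fintype.card ι + ∑ i, ((p i).natDegree - 1) := by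
  rw [← Finset.card_univ, Finset.card_eq_sum_ones, ← Finset.sum_add_distrib]
  exact Finset.sum_congr rfl fun i _ => by have := hD.pos i; omega

/-- Two elements, no exceptions. -/
theorem isComm_two (hD : Data p) (h2 : ∀ a : F, a ≠ 0 → a = 1) (h3 : 3 ≤ ∑ i, (p i).natDegree ∨ 2 ≤ Fintype.card ι) :
    IsComm (piEnd fun i => xi (p i)) := by
  have h10 : (1 + 1 : F) = 0 := by
    by_contra h
    have := h2 _ h
    simp at this
  have hne : ∀ i, LinearMap.det (xi (p i)) ≠ 0 := fun i =>
    Finset.prod_ne_zero_iff.1 (by rw [hD.prod_det]; exact one_ne_zero) i (Finset.mem_univ i)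
  have he : (fun i => LinearMap.det (xi (p i))) = fun _ : ι => (1 : F) := funext fun i => h2 _ (hne i)
  have hone : ∀ φ : ι → F[X], (∀ i, (φ i).Monic) → (∀ i, (φ i).coeff 0 ≠ 0) →
      (∏ i, LinearMap.det (xi (φ i))) * (1 : F) = 1 := by
    intro φ hφ hφ0
    rw [mul_one]
    refine Finset.prod_eq_one fun i _ => h2 _ ?_
    rw [det_xi (hφ i)]
    exact mul_ne_zero (pow_ne_zero _ (by simp)) (hφ0 i)
  by_cases hs : 2 ≤ Fintype.card ι
  · set s := Fintype.card ι with hs'
    have hlt : (X + C (1 : F)).degree < (s : WithBot ℕ) := by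
      rw [degree_X_add_C]; exact_mod_cast (show 1 < s by omega)
    have hψ : (X ^ s + (X + C (1 : F))).Monic := monic_X_pow_add hlt
    have hψd : (X ^ s + (X + C (1 : F))).natDegree = s := by
      apply natDegree_eq_of_degree_eq_some
      rw [degree_add_eq_left_of_degree_lt (by rwa [degree_X_pow]), degree_X_pow]
    have hψ0 : (X ^ s + (X + C (1 : F))).coeff 0 ≠ 0 := by
      simp [coeff_X_pow, show (0 : ℕ) ≠ s by omega]
    refine isComm_of_tops p (fun i => (X - C 1) ^ ((p i).natDegree - 1)) hD.monic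
      (fun i => (monic_X_sub_C 1).pow _) (fun i => ?_) (fun i => coeff_zero_pow_ne one_ne_zero _)
      (ψ := X ^ s + (X + C (1 : F))) (δ := 1) ?_ (fun i => isCoprime_pow_of_eval ?_ _)
      (hone _ (fun i => (monic_X_sub_C 1).pow _) fun i => coeff_zero_pow_ne one_ne_zero _)
    · have := hD.pos i
      rw [natDegree_pow, natDegree_X_sub_C, mul_one]; omega
    · rw [he]; exact corner_of_trivial h2 _ hψ hψd hψ0
    · simp [h10]
  · have hs1 : ∀ i : ι, Fintype.card ι = 1 := fun i => by
      have : 0 < Fintype.card ι := Fintype.card_pos_iff.2 ⟨i⟩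
      omega
    have hbig : ∀ i, 3 ≤ (p i).natDegree := fun i => by
      have h := hs1 i
      obtain ⟨u, hu⟩ := Fintype.card_eq_one_iff.1 h
      rcases h3 with h3 | h3
      · rw [Finset.sum_eq_single i (fun j _ hj => absurd ((hu j).trans (hu i).symm) hj)
          (fun h => absurd (Finset.mem_univ i) h)] at h3
        exact h3
      · omega
    have hlt : ∀ i, (X + C (1 : F)).degree < (((p i).natDegree - 1 : ℕ) : WithBot ℕ) := fun i => by
      rw [degree_X_add_C]; exact_mod_cast (show 1 < (p i).natDegree - 1 by have := hbig i; omega)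
    have hφm : ∀ i, (X ^ ((p i).natDegree - 1) + (X + C (1 : F))).Monic := fun i => monic_X_pow_add (hlt i)
    have hφ0 : ∀ i, (X ^ ((p i).natDegree - 1) + (X + C (1 : F))).coeff 0 ≠ 0 := fun i => by
      have := hbig i
      simp [coeff_X_pow, show (0 : ℕ) ≠ (p i).natDegree - 1 by omega]
    rcases isEmpty_or_nonempty ι with hι | hι
    · exfalso
      rcases h3 with h3 | h3
      · simp at h3
      · omega
    obtain ⟨i₀⟩ := hι
    refine isComm_of_tops p (fun i => X ^ ((p i).natDegree - 1) + (X + C (1 : F))) hD.monic hφm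
      (fun i => ?_) hφ0 (ψ := X - C 1) (δ := 1) ?_ (fun i => ?_) (hone _ hφm hφ0)
    · have h : (X ^ ((p i).natDegree - 1) + (X + C (1 : F))).natDegree = (p i).natDegree - 1 := by
        apply natDegree_eq_of_degree_eq_some
        rw [degree_add_eq_left_of_degree_lt (by rw [degree_X_pow]; exact hlt i), degree_X_pow]
      have := hbig i
      omega
    · rw [he]
      exact corner_of_trivial h2 _ (monic_X_sub_C 1) (by rw [natDegree_X_sub_C, hs1 i₀]) (by simp)
    · refine (irreducible_X_sub_C 1).coprime_iff_not_dvd.2 fun hd => ?_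
      have := dvd_iff_isRoot.1 hd
      simp [IsRoot, h10] at this

/-- The generic case. -/
theorem isComm_easy [Nonempty ι] (hD : Data p)
    (h : (-1 : F) ^ (Fintype.card ι + 1) ≠ 1 ∨ ∀ i, (p i).natDegree = 1) :
    IsComm (piEnd fun i => xi (p i)) := by
  set ε : F := (-1) ^ (Fintype.card ι + 1) with hε
  have hεε : ε * ε = 1 := by rw [hε, ← mul_pow]; simp
  refine isComm_of_tops p (fun i => (X - C 1) ^ ((p i).natDegree - 1)) hD.monic
    (fun i => (monic_X_sub_C 1).pow _) (fun i => ?_) (fun i => coeff_zero_pow_ne one_ne_zero _)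
    (corner_shift _ hD.prod_det ε (left_ne_zero_of_mul (hεε ▸ one_ne_zero))) (fun i => ?_) ?_
  · have := hD.pos i
    rw [natDegree_pow, natDegree_X_sub_C, mul_one]; omega
  · rcases h with h | h
    · refine isCoprime_pow_of_eval ?_ _
      simpa [sub_eq_zero] using Ne.symm h
    · rw [h i, Nat.sub_self, pow_zero]; exact isCoprime_one_right
  · rw [← hε, hεε, mul_one]
    exact Finset.prod_eq_one fun i _ => by rw [det_xi_pow, one_pow]

/-- Tops with prescribed determinant. -/
theorem isComm_of_scalar [Nonempty ι] (hD : Data p) (hε : (-1 : F) ^ (Fintype.card ι + 1) = 1)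
    (M : ℕ) (hM : M ≤ ∑ i, ((p i).natDegree - 1)) (a : F) (ha : a ≠ 0) (h1 : a ^ M ≠ 1)
    (h2 : a ^ (Fintype.card ι + M) ≠ 1) : IsComm (piEnd fun i => xi (p i)) := by
  obtain ⟨μ, hμ, hsum⟩ := exists_le_sum_eq Finset.univ (fun i => (p i).natDegree - 1) M hM
  refine isComm_of_tops p (fun i => (X - C 1) ^ ((p i).natDegree - 1 - μ i) * (X - C a) ^ μ i) hD.monic
    (fun i => ((monic_X_sub_C 1).pow _).mul ((monic_X_sub_C a).pow _)) (fun i => ?_) (fun i => ?_)
    (corner_shift _ hD.prod_det (a ^ M)⁻¹ (inv_ne_zero (pow_ne_zero _ ha))) (fun i => ?_) ?_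
  · have := hμ i; have := hD.pos i
    rw [((monic_X_sub_C 1).pow _).natDegree_mul ((monic_X_sub_C a).pow _), natDegree_pow, natDegree_pow,
      natDegree_X_sub_C, natDegree_X_sub_C, mul_one, mul_one]
    omega
  · rw [mul_coeff_zero]
    exact mul_ne_zero (coeff_zero_pow_ne one_ne_zero _) (coeff_zero_pow_ne ha _)
  · refine (isCoprime_pow_of_eval ?_ _).mul_right (isCoprime_pow_of_eval ?_ _)
    · rw [eval_sub, eval_pow, eval_X, eval_C, one_pow, sub_ne_zero, ne_comm, ne_eq, inv_eq_one]
      exact h1
    · rw [eval_sub, eval_pow, eval_X, eval_C, sub_ne_zero]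
      intro h
      exact h2 (by rw [pow_add, h, inv_mul_cancel₀ (pow_ne_zero _ ha)])
  · rw [hε, one_mul]
    have : ∀ i, LinearMap.det (xi ((X - C 1) ^ ((p i).natDegree - 1 - μ i) * (X - C a) ^ μ i)) = a ^ μ i := by
      intro i
      rw [det_xi_mul ((monic_X_sub_C 1).pow _) ((monic_X_sub_C a).pow _), det_xi_pow, det_xi_pow,
        one_pow, one_mul]
    rw [Finset.prod_congr rfl fun i _ => this i, Finset.prod_pow_eq_pow_sum, hsum,
      mul_inv_cancel₀ (pow_ne_zero _ ha)]

/-- Three elements. -/
theorem isComm_three [Nonempty ι] (hD : Data p) (h3 : (3 : F) = 0)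
    (hodd : Odd (Fintype.card ι)) (hT : 2 ≤ ∑ i, ((p i).natDegree - 1)) :
    IsComm (piEnd fun i => xi (p i)) := by
  classical
  set s := Fintype.card ι with hs
  have hn1 : (2 : F) ≠ 0 := fun h => one_ne_zero (by linear_combination h3 - h : (1 : F) = 0)
  set ω : F[X] := X ^ 2 + X - C 1 with hω
  have hωm : ω.Monic := by rw [hω]; monicity!
  have hωd : ω.natDegree = 2 := by rw [hω]; compute_degree!
  have hω0 : ω.coeff 0 = -1 := by simp [hω]
  have hωdet : LinearMap.det (xi ω) = -1 := by rw [det_xi hωm, hωd, hω0]; ring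
  have hψ : IsCoprime (X ^ s + C 1 : F[X]) (X ^ 4 + C 1) := by
    obtain ⟨v, hv⟩ : (X ^ 4 + C 1 : F[X]) ∣ (X ^ 4) ^ s + (C 1) ^ s := hodd.add_dvd_pow_add_pow _ _
    refine ⟨-C (2⁻¹ : F) * ((X ^ s - 1) * ((X ^ s) ^ 2 + 1)), C (2⁻¹ : F) * v, ?_⟩
    have h : C (2⁻¹ : F) * 2 = 1 := by
      rw [← map_ofNat C 2, ← C_mul, inv_mul_cancel₀ hn1, C_1]
    rw [C_1] at hv ⊢
    rw [one_pow] at hv
    linear_combination h - C (2⁻¹ : F) * hv
  have hωdvd : ω ∣ X ^ 4 + C 1 := by
    refine ⟨X ^ 2 - X - C 1, ?_⟩
    have h : (3 : F[X]) = 0 := by rw [← map_ofNat C 3, h3, map_zero]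
    rw [hω, C_1]
    linear_combination X ^ 2 * h
  have hcoω : IsCoprime (X ^ s - C (-1) : F[X]) ω := by
    rw [map_neg, sub_neg_eq_add]
    exact hψ.of_isCoprime_of_dvd_right hωdvd
  have hev : (X ^ s - C (-1) : F[X]).eval 1 ≠ 0 := by
    simpa [one_add_one_eq_two] using hn1
  have hK := corner_shift (fun i => LinearMap.det (xi (p i))) hD.prod_det (-1 : F) (by simp)
  have hδ : ((-1 : F) ^ (s + 1) * -1) = -1 := by rw [(hodd.add_one).neg_one_pow, one_mul]
  by_cases hbig : ∃ i, 3 ≤ (p i).natDegree
  · obtain ⟨j, hj⟩ := hbig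
    refine isComm_of_tops p
      (fun i => (X - C 1) ^ ((p i).natDegree - 1 - if i = j then 2 else 0) * if i = j then ω else 1)
      hD.monic (fun i => ((monic_X_sub_C 1).pow _).mul (by split_ifs; exacts [hωm, monic_one]))
      (fun i => ?_) (fun i => ?_) hK (fun i => ?_) ?_
    · have := hD.pos i
      rw [((monic_X_sub_C 1).pow _).natDegree_mul (by split_ifs; exacts [hωm, monic_one]), natDegree_pow,
        natDegree_X_sub_C, mul_one]
      split_ifs with hij
      · subst hij; omega
      · rw [natDegree_one]; omega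
    · rw [mul_coeff_zero]
      refine mul_ne_zero (coeff_zero_pow_ne one_ne_zero _) ?_
      split_ifs <;> simp [hω0]
    · refine (isCoprime_pow_of_eval hev _).mul_right ?_
      split_ifs
      exacts [hcoω, isCoprime_one_right]
    · rw [hδ]
      have : ∀ i, LinearMap.det (xi ((X - C 1) ^ ((p i).natDegree - 1 - if i = j then 2 else 0) *
          if i = j then ω else 1)) = if i = j then -1 else 1 := by
        intro i
        rw [det_xi_mul ((monic_X_sub_C 1).pow _) (by split_ifs; exacts [hωm, monic_one]), det_xi_pow, one_pow,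
          one_mul]
        rw [det_xi (by split_ifs; exacts [hωm, monic_one])]
        split_ifs
        · rw [hωd, hω0]; ring
        · simp
      rw [Finset.prod_congr rfl fun i _ => this i, Finset.prod_ite_eq' Finset.univ j]
      simp
  · push Not at hbig
    refine isComm_of_small p hD.monic (fun i => by have := hD.pos i; have := hbig i; omega)
      (φ := (X - C 1) ^ ((∑ i, ((p i).natDegree - 1)) - 2) * ω) (((monic_X_sub_C 1).pow _).mul hωm) ?_ ?_
      hK ((isCoprime_pow_of_eval hev _).mul_right hcoω) ?_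
    · rw [mul_coeff_zero]
      exact mul_ne_zero (coeff_zero_pow_ne one_ne_zero _) (by simp [hω0])
    · rw [((monic_X_sub_C 1).pow _).natDegree_mul hωm, natDegree_pow, natDegree_X_sub_C, mul_one, hωd]
      omega
    · rw [det_xi_mul ((monic_X_sub_C 1).pow _) hωm, det_xi_pow, one_pow, one_mul, hωdet, hδ]
      ring

/-- At least two free places. -/
theorem isComm_large [Nonempty ι] (hD : Data p) (hq : 3 ≤ Nat.card F)
    (hT : 2 ≤ ∑ i, ((p i).natDegree - 1)) : IsComm (piEnd fun i => xi (p i)) := by
  classical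
  haveI := Fintype.ofFinite F
  rw [Nat.card_eq_fintype_card] at hq
  by_cases hε : (-1 : F) ^ (Fintype.card ι + 1) = 1
  swap
  · exact isComm_easy hD (.inl hε)
  rcases Nat.eq_or_lt_of_le hq with hq3 | hq4
  · have h3 : (3 : F) = 0 := by
      have := FiniteField.cast_card_eq_zero F
      rwa [← hq3, Nat.cast_ofNat] at this
    have hne : (-1 : F) ≠ 1 := fun h => one_ne_zero (by linear_combination h3 + h : (1 : F) = 0)
    refine isComm_three hD h3 ?_ hT
    have := (neg_one_pow_eq_one_iff_even hne).1 hε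
    simpa [Nat.even_add_one] using this
  · by_cases h : ∃ a : F, a ≠ 0 ∧ a ^ (Fintype.card ι + 1) ≠ 1
    · obtain ⟨a, ha, ha1⟩ := h
      refine isComm_of_scalar hD hε 1 (by omega) a ha ?_ ha1
      intro h
      rw [pow_one] at h
      exact ha1 (by rw [h, one_pow])
    · push Not at h
      obtain ⟨a, ha, ha1⟩ : ∃ a : F, a ≠ 0 ∧ a ^ 2 ≠ 1 := by
        by_contra hne
        push Not at hne
        have hsub : (Finset.univ : Finset F) ⊆ {0, 1, -1} := fun x _ => by
          by_cases hx : x = 0
          · simp [hx]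
          · have := hne x hx
            rcases sq_eq_one_iff.1 this with h | h <;> simp [h]
        have := le_trans (Finset.card_le_card hsub) Finset.card_le_three
        rw [Finset.card_univ] at this
        omega
      refine isComm_of_scalar hD hε 2 hT a ha ha1 ?_
      rw [show Fintype.card ι + 2 = (Fintype.card ι + 1) + 1 from rfl, pow_succ, h a ha, one_mul]
      exact fun h => ha1 (by rw [h, one_pow])

/-- Exactly one free place. -/
theorem isComm_one_free (hD : Data p) (hq : 3 ≤ Nat.card F)
    (hT : ∑ i, ((p i).natDegree - 1) = 1) (hex : Fintype.card ι = 1 → 4 ≤ Nat.card F) :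
    IsComm (piEnd fun i => xi (p i)) := by
  classical
  have hFD := fun i => finiteDimensional_adjoinRoot (hD.monic i)
  obtain ⟨j, -, hj⟩ := Finset.exists_ne_zero_of_sum_ne_zero (hT.symm ▸ one_ne_zero)
  haveI : Nonempty ι := ⟨j⟩
  by_cases hε : (-1 : F) ^ (Fintype.card ι + 1) = 1
  swap
  · exact isComm_easy hD (.inl hε)
  by_cases hpow : ∃ a : F, a ≠ 0 ∧ a ^ (Fintype.card ι + 1) ≠ 1
  · obtain ⟨a, ha, ha1⟩ := hpow
    refine isComm_of_scalar hD hε 1 hT.ge a ha ?_ ha1
    intro h
    rw [pow_one] at h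
    exact ha1 (by rw [h, one_pow])
  push Not at hpow
  -- all blocks but `j` are linear
  have hsplit := Finset.add_sum_erase Finset.univ (fun i => (p i).natDegree - 1) (Finset.mem_univ j)
  have hj2 : (p j).natDegree = 2 := by omega
  have hlin : ∀ i, i ≠ j → (p i).natDegree = 1 := by
    intro i hi
    have h := Finset.single_le_sum (f := fun i => (p i).natDegree - 1) (fun k _ => Nat.zero_le _)
      (Finset.mem_erase.2 ⟨hi, Finset.mem_univ i⟩)
    have := hD.pos i
    beta_reduce at h hsplit
    omega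
  have hne : ∀ i, LinearMap.det (xi (p i)) ≠ 0 := fun i =>
    Finset.prod_ne_zero_iff.1 (by rw [hD.prod_det]; exact one_ne_zero) i (Finset.mem_univ i)
  obtain ⟨i₀, hi₀⟩ : ∃ i, i ≠ j := by
    by_contra h
    push Not at h
    have h1 : Fintype.card ι = 1 := Fintype.card_eq_one_iff.2 ⟨j, h⟩
    haveI := Fintype.ofFinite F
    have h4 := hex h1
    rw [Nat.card_eq_fintype_card] at h4
    have hsub : (Finset.univ : Finset F) ⊆ {0, 1, -1} := fun x _ => by
      by_cases hx : x = 0
      · simp [hx]
      · have := hpow x hx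
        rw [h1] at this
        rcases sq_eq_one_iff.1 this with h | h <;> simp [h]
    have := le_trans (Finset.card_le_card hsub) Finset.card_le_three
    rw [Finset.card_univ] at this
    omega
  have hsum := hD.sum_eq
  rw [hT, ← finrank_pi_adjoinRoot p hD.monic] at hsum
  have hcard : ∀ a : ι, Fintype.card {b : ι // b ≠ a} + 1 = Fintype.card ι := fun a => by
    rw [← Fintype.card_congr (Equiv.optionSubtypeNe a), Fintype.card_option]
  by_cases hmerge : ∃ i, i ≠ j ∧ (p j).eval (-(p i).coeff 0) ≠ 0
  · -- merge two coprime blocks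
    obtain ⟨i, hij, hev⟩ := hmerge
    have hpi := eq_X_sub_C_of_monic (hD.monic i) (hlin i hij)
    have hco : IsCoprime (p j) (p i) := by
      rw [hpi, ← pow_one (X - C (-(p i).coeff 0))]
      exact isCoprime_pow_of_eval hev 1
    let j' : {k : ι // k ≠ i} := ⟨j, hij.symm⟩
    let p' : Option {k : {k : ι // k ≠ i} // k ≠ j'} → F[X] := fun o => o.elim (p j * p i) fun k => p k.1.1
    have hp' : ∀ o, (p' o).Monic := fun o => by
      cases o
      · exact (hD.monic j).mul (hD.monic i)
      · exact hD.monic _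
    have hsim : Sim (piEnd fun o => xi (p' o)) (piEnd fun k => xi (p k)) := by
      refine (sim_option fun o => xi (p' o)).trans' (Sim.trans' ?_ (sim_split (fun k => xi (p k)) i).symm')
      refine Sim.trans' ?_ ((Sim.rfl' _).prod_congr (sim_split (fun k : {k : ι // k ≠ i} => xi (p k)) j').symm')
      refine Sim.trans' ?_ (sim_prod_assoc _ _ _).symm'
      exact ((sim_crt (hD.monic j) (hD.monic i) hco).trans' (sim_prod_comm _ _)).prod_congr (Sim.rfl' _)
    have hD' : Data p' := ⟨hp', fun o => by
      cases o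
      · show 0 < (p j * p i).natDegree
        rw [(hD.monic j).natDegree_mul (hD.monic i)]; omega
      · exact hD.pos _, by rw [hsim.det_eq]; exact hD.det⟩
    refine (isComm_large hD' hq ?_).sim hsim
    have h := hD'.sum_eq
    rw [← finrank_pi_adjoinRoot p' hp', hsim.finrank_eq, hsum, Fintype.card_option] at h
    have h1 := hcard i
    have h2 : Fintype.card {k : {k : ι // k ≠ i} // k ≠ j'} + 1 = Fintype.card {k : ι // k ≠ i} := by
      rw [← Fintype.card_congr (Equiv.optionSubtypeNe j'), Fintype.card_option]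
    omega
  push Not at hmerge
  set z : F := -(p i₀).coeff 0 with hz
  have hpi₀ := eq_X_sub_C_of_monic (hD.monic i₀) (hlin i₀ hi₀)
  rw [← hz] at hpi₀
  have hz0 : z ≠ 0 := by
    intro h
    apply hne i₀
    rw [hpi₀, ← pow_one (X - C z), det_xi_pow, pow_one, h]
  obtain ⟨r, hr⟩ : (X - C z) ∣ p j := dvd_iff_isRoot.2 (hmerge i₀ hi₀)
  have hrm : r.Monic := (monic_X_sub_C z).of_mul_monic_left (hr ▸ hD.monic j)
  have hr1 : r.natDegree = 1 := by
    have := congrArg natDegree hr
    rw [hj2, (monic_X_sub_C z).natDegree_mul hrm, natDegree_X_sub_C] at this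
    omega
  have hr' := eq_X_sub_C_of_monic hrm hr1
  set z' : F := -r.coeff 0
  by_cases hzz : z = z'
  swap
  · -- split the quadratic block
    let p' : Option (Option {k : ι // k ≠ j}) → F[X] := fun o =>
      o.elim (X - C z) fun o => o.elim r fun k => p k
    have hp' : ∀ o, (p' o).Monic := fun o => by
      rcases o with _ | _ | k
      exacts [monic_X_sub_C z, hrm, hD.monic k]
    have hlin' : ∀ o, (p' o).natDegree = 1 := fun o => by
      rcases o with _ | _ | k
      exacts [natDegree_X_sub_C z, hr1, hlin k k.2]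
    have hco : IsCoprime (X - C z) r := by
      refine (irreducible_X_sub_C z).coprime_iff_not_dvd.2 fun hd => hzz ?_
      have := dvd_iff_isRoot.1 hd
      rw [hr'] at this
      simpa [IsRoot, sub_eq_zero] using this
    have hsim : Sim (piEnd fun o => xi (p' o)) (piEnd fun k => xi (p k)) := by
      refine (sim_option fun o => xi (p' o)).trans' (Sim.trans' ?_ (sim_split (fun k => xi (p k)) j).symm')
      refine ((Sim.rfl' _).prod_congr (sim_option fun o => xi (p' (some o)))).trans' ?_
      refine (sim_prod_assoc _ _ _).trans' (Sim.prod_congr ?_ (Sim.rfl' _))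
      show Sim ((xi (X - C z)).prodMap (xi r)) (xi (p j))
      rw [hr]
      exact (sim_crt (monic_X_sub_C z) hrm hco).symm'
    exact (isComm_easy ⟨hp', fun o => (hlin' o).symm ▸ one_pos, by rw [hsim.det_eq]; exact hD.det⟩
      (.inr hlin')).sim hsim
  rw [hr', ← hzz] at hr
  have hsingles : ∀ i, i ≠ j → p i = X - C z := by
    intro i hi
    have h := hmerge i hi
    rw [hr] at h
    rw [eq_X_sub_C_of_monic (hD.monic i) (hlin i hi)]
    simp [sub_eq_zero] at h
    rw [h]
  rcases eq_or_ne z 1 with hz1 | hz1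
  · -- a transvection: drop one trivial summand
    let p' : {k : ι // k ≠ i₀} → F[X] := fun k => p k
    haveI : Nonempty {k : ι // k ≠ i₀} := ⟨⟨j, hi₀.symm⟩⟩
    have hsim := sim_split (fun k => xi (p k)) i₀
    have hid : xi (p i₀) = LinearMap.id := by
      refine LinearMap.ext fun x => ?_
      rw [mulBy_apply, LinearMap.id_apply]
      conv_rhs => rw [← one_mul x, ← map_one (AdjoinRoot.mk (p i₀))]
      congr 1
      rw [AdjoinRoot.mk_eq_mk, hpi₀, hz1, C_1]
    have hdet' : LinearMap.det (piEnd fun k => xi (p' k)) = 1 := by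
      have h := hsim.det_eq
      rw [hD.det, hid, LinearMap.det_prodMap, LinearMap.det_id, one_mul] at h
      exact h.symm
    have hD' : Data p' := ⟨fun k => hD.monic k, fun k => hD.pos k, hdet'⟩
    have hc := hcard i₀
    suffices h : IsComm (piEnd fun k => xi (p' k)) by
      refine ((h.prod_id (W := AdjoinRoot (p i₀))).sim (sim_prod_comm _ _)).sim ?_
      rw [hid] at hsim
      exact hsim.symm'
    by_cases hneg : (-1 : F) = 1
    · have hε' : (-1 : F) ^ (Fintype.card {k : ι // k ≠ i₀} + 1) = 1 := by rw [hneg, one_pow]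
      haveI := Fintype.ofFinite F
      obtain ⟨a, ha, ha1⟩ : ∃ a : F, a ≠ 0 ∧ a ≠ 1 := by
        by_contra hno
        push Not at hno
        have hsub : (Finset.univ : Finset F) ⊆ {0, 1} := fun x _ => by
          by_cases hx : x = 0
          · simp [hx]
          · simp [hno x hx]
        have := le_trans (Finset.card_le_card hsub) Finset.card_le_two
        rw [Finset.card_univ, ← Nat.card_eq_fintype_card] at this
        omega
      refine isComm_of_scalar hD' hε' 1 ?_ a ha (by rwa [pow_one]) ?_
      · refine le_trans (le_of_eq ?_) (Finset.single_le_sum (f := fun k => (p' k).natDegree - 1)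
          (fun k _ => Nat.zero_le _) (Finset.mem_univ ⟨j, hi₀.symm⟩))
        show 1 = (p j).natDegree - 1
        omega
      · rw [hc]
        intro h
        have := hpow a ha
        rw [pow_succ, h, one_mul] at this
        exact ha1 this
    · refine isComm_easy hD' (.inl ?_)
      rw [hc]
      intro h
      rw [pow_succ, h, one_mul] at hε
      exact hneg hε
  · -- a scalar times a transvection
    have hn : 3 ≤ Fintype.card ι + 1 := by
      have := Fintype.one_lt_card_iff.2 ⟨i₀, j, hi₀⟩
      omega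
    obtain ⟨f, G, θ', w', hf, hfd, hθ', hw', hθw', hG, hcomm⟩ :=
      exists_perturb hn hq z hz1 (hpow z hz0)
    have := finiteDimensional_adjoinRoot hf
    let θ₀ : AdjoinRoot (p j) →ₗ[F] F := (aeval z).toLinearMap.comp (rep (hD.monic j))
    let w₀ : AdjoinRoot (p j) := AdjoinRoot.mk (p j) (X - C z)
    have hθ₀ : ∀ g, θ₀ (AdjoinRoot.mk (p j) g) = g.eval z := by
      intro g
      show aeval z (rep (hD.monic j) (AdjoinRoot.mk (p j) g)) = _
      rw [rep_mk, modByMonic_eq_sub_mul_div, coe_aeval_eq_eval, eval_sub, eval_mul, hr]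
      simp
    have hG₀ : ∀ x, xi (p j) x = z • x + θ₀ x • w₀ := by
      intro x
      obtain ⟨g, rfl⟩ := AdjoinRoot.mk_surjective x
      rw [hθ₀, mulBy_apply, Algebra.smul_def, Algebra.smul_def, AdjoinRoot.algebraMap_eq,
        ← AdjoinRoot.mk_C, ← AdjoinRoot.mk_C, ← map_mul, ← map_mul, ← map_mul, ← map_add,
        AdjoinRoot.mk_eq_mk]
      obtain ⟨c, hc⟩ := X_sub_C_dvd_sub_C_eval (p := g) (a := z)
      exact ⟨c, by rw [hr]; linear_combination (X - C z) * hc⟩
    have hw₀ : w₀ ≠ 0 := by
      intro h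
      have h' := natDegree_le_of_dvd (AdjoinRoot.mk_eq_zero.1 h) (monic_X_sub_C z).ne_zero
      rw [hj2, natDegree_X_sub_C] at h'
      omega
    refine hcomm.sim (sim_of_rank_one ?_ G (piEnd fun k => xi (p k)) z θ' w' hθ' hw' hθw' hG
      (θ₀.comp (LinearMap.proj j)) (Pi.single j w₀) ?_ ?_ ?_ ?_)
    · rw [finrank_adjoinRoot hf, hfd, hsum]
    · intro h
      have := LinearMap.congr_fun h (Pi.single j (AdjoinRoot.mk (p j) 1))
      rw [LinearMap.comp_apply, LinearMap.proj_apply, Pi.single_eq_same, hθ₀, eval_one, LinearMap.zero_apply] at this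
      exact one_ne_zero this
    · simpa using hw₀
    · rw [LinearMap.comp_apply, LinearMap.proj_apply, Pi.single_eq_same, hθ₀, eval_sub, eval_X, eval_C, sub_self]
    · intro x
      funext k
      rcases eq_or_ne k j with rfl | hk
      · simp [hG₀]
      · simp only [piEnd_apply, LinearMap.comp_apply, LinearMap.proj_apply, Pi.add_apply, Pi.smul_apply,
          Pi.single_eq_of_ne hk, smul_zero, add_zero]
        rw [mulBy_apply, Algebra.smul_def, AdjoinRoot.algebraMap_eq, ← AdjoinRoot.mk_C]
        congr 1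
        rw [AdjoinRoot.mk_eq_mk, hsingles k hk]

/-- Every sum of companion blocks of determinant one is a commutator. -/
theorem isComm_piEnd (hD : Data p) (hn : 2 ≤ ∑ i, (p i).natDegree)
    (hex : ∑ i, (p i).natDegree = 2 → 4 ≤ Nat.card F) : IsComm (piEnd fun i => xi (p i)) := by
  haveI := Fintype.ofFinite F
  have hsum := hD.sum_eq
  haveI : Nonempty ι := by
    by_contra h
    rw [not_nonempty_iff] at h
    simp at hn
  rcases Nat.lt_or_ge (Nat.card F) 3 with hq | hq
  · refine isComm_two hD (fun a ha => ?_) (.inl ?_)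
    · have h2 : Fintype.card F = 2 := by
        have := Fintype.one_lt_card (α := F)
        rw [Nat.card_eq_fintype_card] at hq
        omega
      have := FiniteField.pow_card_sub_one_eq_one a ha
      rw [h2] at this
      simpa using this
    · by_contra h
      have := hex (by omega)
      omega
  rcases (∑ i, ((p i).natDegree - 1)).eq_zero_or_pos with h0 | h0
  · refine isComm_easy hD (.inr fun i => ?_)
    have := Finset.sum_eq_zero_iff.1 h0 i (Finset.mem_univ i)
    have := hD.pos i
    omega
  rcases Nat.eq_or_lt_of_le h0 with h1 | h1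
  · exact isComm_one_free hD hq h1.symm fun hc => hex (by omega)
  · exact isComm_large hD hq h1

end CfsgLib.SLComm
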