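import Cfsg.Agent.Lib.SLComm.Blocks
import Cfsg.Agent.Lib.SLComm.Crt
import Mathlib.Algebra.BigOperators.Fin

/-! Corners (cyclic shifts) and the two kinds of tops. -/

set_option autoImplicit false

namespace CfsgLib.SLComm

open Module Polynomial CfsgLib.ClassNum

variable {F : Type*} [Field F]

/-- What the corner part must provide. -/
def Corner {ι : Type*} (e : ι → F) (ψ : F[X]) (δ : F) : Prop :=
  ∃ (X2 Z2 : Module.End F (ι → F)) (w2 : (ι → F) ≃ₗ[F] (ι → F)),
    (∀ y i, X2 (Z2 y) i = e i * y i) ∧ (∀ x, Z2 (w2 (X2 x)) = w2 x) ∧ aeval X2 ψ = 0 ∧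
      LinearMap.det X2 = δ ∧
      ∀ a : F, a ≠ 0 → ∃ C : Module.End F (ι → F), LinearMap.det C = a ∧ C * X2 = X2 * C

theorem Corner.congr {ι κ : Type*} [Fintype ι] [Fintype κ] (σ : ι ≃ κ) {e : κ → F} {ψ : F[X]} {δ : F}
    (h : Corner (fun i => e (σ i)) ψ δ) : Corner e ψ δ := by
  obtain ⟨X2, Z2, w2, hD, hw, hψ, hdet, hC⟩ := h
  let L : (ι → F) ≃ₗ[F] (κ → F) := LinearEquiv.funCongrLeft F F σ.symm
  refine ⟨L.conj X2, L.conj Z2, L.symm.trans (w2.trans L), fun y i => ?_, fun x => ?_, ?_, ?_, fun a ha => ?_⟩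
  · obtain ⟨j, rfl⟩ := σ.surjective i
    simp only [LinearEquiv.conj_apply, LinearMap.comp_apply, LinearEquiv.coe_coe,
      LinearEquiv.symm_apply_apply]
    show X2 (Z2 (L.symm y)) (σ.symm (σ j)) = _
    rw [σ.symm_apply_apply, hD]
    rfl
  · simp [LinearEquiv.conj_apply, hw]
  · have : aeval (L.conj X2) ψ = L.conj (aeval X2 ψ) :=
      aeval_algHom_apply (L.conjAlgEquiv F).toAlgHom X2 ψ
    rw [this, hψ, map_zero]
  · rw [det_conj', hdet]
  · obtain ⟨C, hC1, hC2⟩ := hC a ha
    refine ⟨L.conj C, by rw [det_conj', hC1], ?_⟩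
    have h1 := congrArg L.conj hC2
    rw [Module.End.mul_eq_comp, Module.End.mul_eq_comp, LinearEquiv.conj_comp, LinearEquiv.conj_comp] at h1
    exact h1

theorem exists_equiv_adjoinRoot {P : F[X]} (hP : P.Monic) {V : Type*} [AddCommGroup V] [Module F V]
    [FiniteDimensional F V] (h : finrank F V = P.natDegree) :
    ∃ _e : V ≃ₗ[F] AdjoinRoot P, True := by
  have := finiteDimensional_adjoinRoot hP
  obtain ⟨e⟩ := FiniteDimensional.nonempty_linearEquiv_of_finrank_eq (R := F)
    (show finrank F V = finrank F (AdjoinRoot P) by rw [h, finrank_adjoinRoot hP])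
  exact ⟨e, trivial⟩

/-- With trivial Schur complements any monic polynomial may be used in the corner
(over the field with two elements). -/
theorem corner_of_trivial {ι : Type*} [Fintype ι] (h2 : ∀ a : F, a ≠ 0 → a = 1) (ψ : F[X]) (hψ : ψ.Monic)
    (hdeg : ψ.natDegree = Fintype.card ι) (h0 : ψ.coeff 0 ≠ 0) :
    Corner (fun _ : ι => (1 : F)) ψ 1 := by
  obtain ⟨L, -⟩ := exists_equiv_adjoinRoot hψ (V := ι → F) (by rw [finrank_pi, hdeg])
  let Xe : (ι → F) ≃ₗ[F] (ι → F) :=
    L.trans ((LinearEquiv.ofBijective (xi ψ) (bijective_xi hψ h0)).trans L.symm)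
  have hX : (Xe : Module.End F (ι → F)) = L.symm.conj (xi ψ) :=
    LinearMap.ext fun x => by simp [Xe, LinearEquiv.conj_apply]
  refine ⟨Xe, Xe.symm, LinearEquiv.refl F _, fun y i => by simp, fun x => by simp, ?_, ?_,
    fun a ha => ⟨1, by rw [map_one, h2 a ha], by simp⟩⟩
  · have : aeval (L.symm.conj (xi ψ)) ψ = L.symm.conj (aeval (xi ψ) ψ) :=
      aeval_algHom_apply (L.symm.conjAlgEquiv F).toAlgHom (xi ψ) ψ
    rw [hX, this, aeval_xi, mulBy, AdjoinRoot.mk_self, LinearMap.mulLeft_zero_eq_zero, map_zero]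
  · exact h2 _ (det_ne_zero_of_bijective Xe.bijective)

/-- The cyclic shift realises every diagonal matrix of determinant one. -/
theorem corner_shift [Finite F] {ι : Type*} [Fintype ι] [Nonempty ι] (e : ι → F) (he : ∏ i, e i = 1)
    (c : F) (hc : c ≠ 0) :
    Corner e (X ^ Fintype.card ι - C c) ((-1) ^ (Fintype.card ι + 1) * c) := by
  classical
  obtain ⟨m, hm⟩ : ∃ m, Fintype.card ι = m + 1 :=
    Nat.exists_eq_succ_of_ne_zero Fintype.card_ne_zero
  let σ : Fin (m + 1) ≃ ι := (Fintype.equivFinOfCardEq hm).symm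
  rw [hm]
  refine Corner.congr σ ?_
  set f : Fin (m + 1) → F := fun i => e (σ i) with hf
  have hprod : ∏ i, f i = 1 := (σ.prod_comp e).trans he
  have hne : ∀ i, f i ≠ 0 := fun i h => by
    rw [Finset.prod_eq_zero (Finset.mem_univ i) h] at hprod
    exact zero_ne_one hprod
  have hψ : (X ^ (m + 1) - C c : F[X]).Monic := monic_X_pow_sub_C _ m.succ_ne_zero
  have hdim : (AdjoinRoot.powerBasis' hψ).dim = m + 1 := natDegree_X_pow_sub_C
  let b := (AdjoinRoot.powerBasis' hψ).basis.reindex (finCongr hdim)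
  let L : (Fin (m + 1) → F) ≃ₗ[F] AdjoinRoot (X ^ (m + 1) - C c) := b.equivFun.symm
  have hL : ∀ i, L (Pi.single i 1) = AdjoinRoot.mk (X ^ (m + 1) - C c) (X ^ (i : ℕ)) := by
    intro i
    rw [show L (Pi.single i 1) = b i by simp [L, Basis.equivFun_symm_apply, Pi.single_apply]]
    simp [b]
  let Xs : Module.End F (Fin (m + 1) → F) := L.symm.conj (xi (X ^ (m + 1) - C c))
  have hsucc : ∀ i : Fin m, Xs (Pi.single i.castSucc 1) = Pi.single i.succ 1 := by
    intro i
    apply L.injective
    simp only [Xs, LinearEquiv.conj_apply, LinearMap.comp_apply, LinearEquiv.coe_coe,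
      LinearEquiv.symm_symm, LinearEquiv.apply_symm_apply, hL, mulBy_apply, ← map_mul]
    rw [Fin.val_succ, Fin.val_castSucc, ← pow_succ']
  have hlast : Xs (Pi.single (Fin.last m) 1) = c • Pi.single 0 1 := by
    apply L.injective
    simp only [Xs, LinearEquiv.conj_apply, LinearMap.comp_apply, LinearEquiv.coe_coe,
      LinearEquiv.symm_symm, LinearEquiv.apply_symm_apply, hL, mulBy_apply, ← map_mul, map_smul]
    rw [Fin.val_last, Fin.val_zero, pow_zero, map_one, Algebra.smul_def, mul_one, AdjoinRoot.algebraMap_eq,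
      ← AdjoinRoot.mk_C, AdjoinRoot.mk_eq_mk, pow_succ' X m]
  have hbij : Function.Bijective Xs := by
    have h := bijective_xi hψ (by simp [hc])
    simp only [Xs, LinearEquiv.conj_apply, LinearMap.coe_comp, LinearEquiv.coe_coe]
    exact ((L.symm.bijective.comp h).comp L.symm.symm.bijective)
  let Xe := LinearEquiv.ofBijective Xs hbij
  -- the diagonal `d` with `d i = d (i+1) * f (i+1)`
  let d : Fin (m + 1) → F := fun i => (∏ j ∈ Finset.univ.filter (fun j => 0 < j ∧ j ≤ i), f j)⁻¹
  have hd : ∀ i, d i ≠ 0 := fun i => inv_ne_zero (Finset.prod_ne_zero_iff.2 fun j _ => hne j)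
  have hdsucc : ∀ i : Fin m, d i.castSucc = f i.succ * d i.succ := by
    intro i
    have hs : Finset.univ.filter (fun j : Fin (m + 1) => 0 < j ∧ j ≤ i.succ) =
        insert i.succ (Finset.univ.filter (fun j : Fin (m + 1) => 0 < j ∧ j ≤ i.castSucc)) := by
      ext j
      simp only [Finset.mem_filter, Finset.mem_univ, true_and, Finset.mem_insert, Fin.lt_def, Fin.le_def,
        Fin.ext_iff, Fin.val_succ, Fin.val_castSucc, Fin.val_zero]
      omega
    show _ = f i.succ * (∏ j ∈ _, f j)⁻¹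
    rw [hs, Finset.prod_insert (by simp), mul_inv, ← mul_assoc, mul_inv_cancel₀ (hne _), one_mul]
  have hdlast : d (Fin.last m) = f 0 * d 0 := by
    have h0 : Finset.univ.filter (fun j : Fin (m + 1) => 0 < j ∧ j ≤ 0) = ∅ :=
      Finset.filter_false_of_mem fun j _ h => not_le_of_gt h.1 h.2
    have h1 : Finset.univ.filter (fun j : Fin (m + 1) => 0 < j ∧ j ≤ Fin.last m) = Finset.univ.erase 0 := by
      ext j; simp [Fin.le_last, Fin.pos_iff_ne_zero]
    show (∏ j ∈ _, f j)⁻¹ = f 0 * (∏ j ∈ _, f j)⁻¹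
    rw [h0, h1, Finset.prod_empty, inv_one, mul_one]
    refine inv_eq_of_mul_eq_one_left ?_
    rw [Finset.mul_prod_erase _ _ (Finset.mem_univ _), hprod]
  let w : (Fin (m + 1) → F) ≃ₗ[F] (Fin (m + 1) → F) :=
    LinearEquiv.piCongrRight fun i => LinearEquiv.smulOfUnit (Units.mk0 (d i) (hd i))
  have hw : ∀ y i, w y i = d i * y i := fun y i => rfl
  have key : ∀ y i, Xs (w y) i = f i * d i * Xs y i := by
    intro y i
    let D : Module.End F (Fin (m + 1) → F) := piEnd fun i => (f i * d i) • LinearMap.id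
    have hD : ∀ z j, D z j = f j * d j * z j := fun z j => rfl
    have heq : Xs * (w : Module.End F (Fin (m + 1) → F)) = D * Xs := by
      refine (Pi.basisFun F (Fin (m + 1))).ext fun j => ?_
      rw [Pi.basisFun_apply, Module.End.mul_apply, Module.End.mul_apply]
      have hwj : w (Pi.single j 1) = d j • Pi.single j (1 : F) := by
        funext k; rw [hw]; rcases eq_or_ne k j with rfl | hk <;> simp [*]
      rw [LinearEquiv.coe_coe, hwj, map_smul]
      induction j using Fin.lastCases with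
      | last =>
        rw [hlast, map_smul, smul_comm]
        congr 1
        funext k
        rw [hD]
        rcases eq_or_ne k 0 with rfl | hk
        · simp [hdlast]
        · simp [hk]
      | cast j =>
        rw [hsucc]
        funext k
        rw [hD]
        rcases eq_or_ne k j.succ with rfl | hk
        · simp [hdsucc]
        · simp [hk]
    have := congrFun (LinearMap.congr_fun heq y) i
    rw [Module.End.mul_apply, Module.End.mul_apply, hD] at this
    exact this
  refine ⟨Xs, (w : Module.End F (Fin (m + 1) → F)) * (Xe.symm : Module.End F (Fin (m + 1) → F)) *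
      (w.symm : Module.End F (Fin (m + 1) → F)), w, fun y i => ?_, fun x => ?_, ?_, ?_, fun a ha => ?_⟩
  · show Xs (w (Xe.symm (w.symm y))) i = f i * y i
    rw [key, show Xs (Xe.symm (w.symm y)) = w.symm y from Xe.apply_symm_apply _]
    conv_rhs => rw [← w.apply_symm_apply y, hw]
    ring
  · show w (Xe.symm (w.symm (w (Xs x)))) = w x
    rw [w.symm_apply_apply, show Xe.symm (Xs x) = x from Xe.symm_apply_apply x]
  · have : aeval Xs (X ^ (m + 1) - C c) = L.symm.conj (aeval (xi (X ^ (m + 1) - C c)) (X ^ (m + 1) - C c)) :=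
      aeval_algHom_apply (L.symm.conjAlgEquiv F).toAlgHom _ _
    rw [this, aeval_xi, mulBy, AdjoinRoot.mk_self, LinearMap.mulLeft_zero_eq_zero, map_zero]
  · rw [det_conj', det_xi hψ, natDegree_X_pow_sub_C]
    simp [pow_succ]
  · obtain ⟨h, hh⟩ := exists_norm_X_pow_sub_C (F := F) m.succ_ne_zero hc a ha
    refine ⟨L.symm.conj (mulBy (X ^ (m + 1) - C c) h), by rw [det_conj', det_mulBy_eq_norm, hh], ?_⟩
    rw [Module.End.mul_eq_comp, Module.End.mul_eq_comp, ← LinearEquiv.conj_comp, ← LinearEquiv.conj_comp]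
    congr 1
    refine LinearMap.ext fun x => ?_
    simp only [LinearMap.comp_apply, mulBy_apply]
    ring

variable {ι : Type*} [Fintype ι]

theorem aeval_piEnd {M : ι → Type*} [∀ i, AddCommGroup (M i)] [∀ i, Module F (M i)]
    (f : Π i, Module.End F (M i)) (ψ : F[X]) :
    aeval (piEnd f) ψ = piEnd (fun i => aeval (f i) ψ) := by
  induction ψ using Polynomial.induction_on with
  | C a => refine LinearMap.ext fun x => funext fun i => ?_; simp [Module.algebraMap_end_apply]
  | add p q hp hq => refine LinearMap.ext fun x => funext fun i => ?_; simp [hp, hq]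
  | monomial k a ih =>
    refine LinearMap.ext fun x => funext fun i => ?_
    rw [pow_succ, ← mul_assoc, map_mul, aeval_X, ih, Module.End.mul_apply, piEnd_apply, piEnd_apply, piEnd_apply]
    simp only [map_mul, aeval_X, Module.End.mul_apply]

/-- Separate companion tops. -/
theorem isComm_of_tops (p φ : ι → F[X]) (hp : ∀ i, (p i).Monic) (hφ : ∀ i, (φ i).Monic)
    (hdeg : ∀ i, (p i).natDegree = (φ i).natDegree + 1) (hφ0 : ∀ i, (φ i).coeff 0 ≠ 0)
    {ψ : F[X]} {δ : F} (hK : Corner (fun i => LinearMap.det (xi (p i))) ψ δ)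
    (hco : ∀ i, IsCoprime ψ (φ i)) (hdet : (∏ i, LinearMap.det (xi (φ i))) * δ = 1) :
    IsComm (piEnd fun i => xi (p i)) := by
  obtain ⟨X2, Z2, w2, hD, hw, hψ, hX2, hC⟩ := hK
  choose R hR hRdeg hRdet Xt Zt wt hXZ hZw hsim using fun i => exists_top (hφ i) (hφ0 i)
  have := fun i => finiteDimensional_adjoinRoot (hR i)
  have hsign : ∀ i, (R i).coeff 0 = (-1) ^ (φ i).natDegree := by
    intro i
    have h := hRdet i
    rw [det_xi (hR i), hRdeg i] at h
    calc (R i).coeff 0 = ((-1 : F) ^ (φ i).natDegree * (-1) ^ (φ i).natDegree) * (R i).coeff 0 := by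
          rw [← mul_pow]; simp
      _ = (-1) ^ (φ i).natDegree := by rw [mul_assoc, h, mul_one]
  refine isComm_of_data p R hp hR (fun i => by rw [hRdeg i, hdeg i]) (fun i => by rw [hsign i]; simp)
    (piEnd Xt) (piEnd Zt) (LinearEquiv.piCongrRight wt) ?_ (fun x => funext fun i => ?_) X2 Z2 w2 ?_ hw
    ψ ?_ hψ ?_ hC
  · rw [← map_mul]; congr 1; funext i; exact hXZ i
  · exact hZw i (x i)
  · refine LinearMap.ext fun y => funext fun i => ?_
    rw [schurDiag_apply, Module.End.mul_apply, hD]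
    congr 1
    beta_reduce
    rw [det_xi (hp i), hsign i, hdeg i, div_eq_iff (by simp), mul_right_comm, ← pow_add,
      show (φ i).natDegree + 1 + (φ i).natDegree = 2 * (φ i).natDegree + 1 by ring, pow_succ, pow_mul]
    simp
  · rw [aeval_piEnd]
    have hb : ∀ i, Function.Bijective (aeval (Xt i) ψ) := fun i =>
      (hsim i).aeval_bijective ψ (by rw [aeval_xi]; exact bijective_mulBy_of_isCoprime (hco i))
    refine ⟨fun x y h => funext fun i => (hb i).1 (congrFun h i), fun y => ?_⟩
    choose x hx using fun i => (hb i).2 (y i)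
    exact ⟨x, funext hx⟩
  · rw [det_piEnd, hX2]
    rw [← hdet]
    congr 1
    exact Finset.prod_congr rfl fun i _ => (hsim i).det_eq.symm

/-- When all blocks have degree at most two, the tops may be one arbitrary companion. -/
theorem isComm_of_small (p : ι → F[X]) (hp : ∀ i, (p i).Monic)
    (hdeg : ∀ i, (p i).natDegree = 1 ∨ (p i).natDegree = 2)
    {φ : F[X]} (hφ : φ.Monic) (hφ0 : φ.coeff 0 ≠ 0)
    (hφdeg : φ.natDegree = ∑ i, ((p i).natDegree - 1))
    {ψ : F[X]} {δ : F} (hK : Corner (fun i => LinearMap.det (xi (p i))) ψ δ)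
    (hco : IsCoprime ψ φ) (hdet : LinearMap.det (xi φ) * δ = 1) :
    IsComm (piEnd fun i => xi (p i)) := by
  obtain ⟨X2, Z2, w2, hD, hw, hψ, hX2, hC⟩ := hK
  let R : ι → F[X] := fun i => (X - C 1) ^ ((p i).natDegree - 1)
  have hR : ∀ i, (R i).Monic := fun i => (monic_X_sub_C 1).pow _
  have := fun i => finiteDimensional_adjoinRoot (hR i)
  have hRdeg : ∀ i, (R i).natDegree = (p i).natDegree - 1 := fun i => by
    simp only [R, natDegree_pow, natDegree_X_sub_C, mul_one]
  have hone : piEnd (fun i => xi (R i)) = 1 := by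
    refine LinearMap.ext fun x => funext fun i => ?_
    show xi (R i) (x i) = x i
    rw [mulBy_apply]
    conv_rhs => rw [← one_mul (x i), ← map_one (AdjoinRoot.mk (R i))]
    congr 1
    rw [AdjoinRoot.mk_eq_mk]
    rcases hdeg i with h | h <;> simp [R, h]
  have := finiteDimensional_adjoinRoot hφ
  obtain ⟨L, -⟩ := exists_equiv_adjoinRoot hφ (V := Π i, AdjoinRoot (R i)) (by
    rw [finrank_pi_fintype, hφdeg]
    exact Finset.sum_congr rfl fun i _ => by rw [finrank_adjoinRoot (hR i), hRdeg i])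
  let Xe : (Π i, AdjoinRoot (R i)) ≃ₗ[F] Π i, AdjoinRoot (R i) :=
    L.trans ((LinearEquiv.ofBijective (xi φ) (bijective_xi hφ hφ0)).trans L.symm)
  have hsim : Sim (xi φ) (Xe : Module.End F (Π i, AdjoinRoot (R i))) :=
    ⟨L.symm, fun x => by simp [Xe]⟩
  refine isComm_of_data p R hp hR (fun i => by rw [hRdeg]; rcases hdeg i with h | h <;> omega)
    (fun i => by simp [R, coeff_zero_eq_eval_zero]) Xe Xe.symm (LinearEquiv.refl F _) ?_ (fun x => by simp)
    X2 Z2 w2 ?_ hw ψ ?_ hψ ?_ hC
  · rw [hone]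
    exact LinearMap.ext fun x => (Xe.apply_symm_apply x).symm
  · refine LinearMap.ext fun y => funext fun i => ?_
    rw [schurDiag_apply, Module.End.mul_apply, hD]
    congr 1
    beta_reduce
    rw [det_xi (hp i)]
    rcases hdeg i with h | h <;> simp [R, h, coeff_zero_eq_eval_zero, neg_div, div_neg, div_one]
  · exact hsim.aeval_bijective ψ (by rw [aeval_xi]; exact bijective_mulBy_of_isCoprime hco)
  · rw [← hdet, hX2, hsim.det_eq]

end CfsgLib.SLComm
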