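import Cfsg.Agent.Lib.ClassNum.Summand
import Mathlib.LinearAlgebra.Matrix.SpecialLinearGroup
import Mathlib.LinearAlgebra.Matrix.ToLin
import Mathlib.LinearAlgebra.Determinant
import Mathlib.Tactic.NoncommRing

/-! Commutators of automorphisms of determinant one: a block-triangular criterion. -/

set_option autoImplicit false

namespace CfsgLib.SLComm

open Module Polynomial

variable {F : Type*} [Field F]
variable {V W U : Type*} [AddCommGroup V] [Module F V] [AddCommGroup W] [Module F W]
  [AddCommGroup U] [Module F U]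

/-- Two endomorphisms are similar. -/
def Sim (A : Module.End F V) (B : Module.End F W) : Prop :=
  ∃ e : V ≃ₗ[F] W, ∀ x, e (A x) = B (e x)

theorem Sim.rfl' (A : Module.End F V) : Sim A A := ⟨LinearEquiv.refl F V, fun _ => rfl⟩

theorem Sim.symm' {A : Module.End F V} {B : Module.End F W} (h : Sim A B) : Sim B A := by
  obtain ⟨e, he⟩ := h
  exact ⟨e.symm, fun x => e.injective (by rw [he, e.apply_symm_apply, e.apply_symm_apply])⟩

theorem Sim.trans' {A : Module.End F V} {B : Module.End F W} {C : Module.End F U} (h : Sim A B)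
    (h' : Sim B C) : Sim A C := by
  obtain ⟨e, he⟩ := h
  obtain ⟨e', he'⟩ := h'
  exact ⟨e.trans e', fun x => by simp [he, he']⟩

/-- Conjugation by a linear equivalence preserves determinants. -/
theorem det_conj' (e : V ≃ₗ[F] W) (A : Module.End F V) :
    LinearMap.det (e.conj A) = LinearMap.det A := by
  rw [LinearEquiv.conj_apply, LinearMap.comp_assoc, LinearMap.det_conj]

theorem Sim.det_eq {A : Module.End F V} {B : Module.End F W} (h : Sim A B) :
    LinearMap.det A = LinearMap.det B := by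
  obtain ⟨e, he⟩ := h
  rw [← det_conj' e A]
  congr 1
  refine LinearMap.ext fun x => ?_
  obtain ⟨y, rfl⟩ := e.surjective x
  simp [LinearEquiv.conj_apply, he]

/-- An automorphism which is a commutator of two automorphisms of determinant one. -/
def IsComm (G : Module.End F V) : Prop :=
  ∃ A B : V ≃ₗ[F] V, LinearMap.det (A : Module.End F V) = 1 ∧ LinearMap.det (B : Module.End F V) = 1 ∧
    ∀ x, G x = A (B (A.symm (B.symm x)))

theorem IsComm.sim {G : Module.End F V} {H : Module.End F W} (h : IsComm G) (hs : Sim G H) :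
    IsComm H := by
  obtain ⟨A, B, hA, hB, hG⟩ := h
  obtain ⟨e, he⟩ := hs
  refine ⟨e.symm.trans (A.trans e), e.symm.trans (B.trans e), ?_, ?_, fun x => ?_⟩
  · rw [← hA, ← det_conj' e (A : Module.End F V)]; rfl
  · rw [← hB, ← det_conj' e (B : Module.End F V)]; rfl
  · obtain ⟨y, rfl⟩ := e.surjective x
    rw [← he, hG]
    simp

/-- A commutator stays one after adding a trivial summand. -/
theorem IsComm.prod_id [FiniteDimensional F V] [FiniteDimensional F W] {G : Module.End F V}
    (h : IsComm G) : IsComm (G.prodMap (LinearMap.id : Module.End F W)) := by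
  obtain ⟨A, B, hA, hB, hG⟩ := h
  refine ⟨A.prodCongr (LinearEquiv.refl F W), B.prodCongr (LinearEquiv.refl F W), ?_, ?_, fun x => ?_⟩
  · rw [show ((A.prodCongr (LinearEquiv.refl F W) : (V × W) ≃ₗ[F] V × W) : Module.End F (V × W)) =
      (A : Module.End F V).prodMap LinearMap.id from LinearMap.ext fun _ => rfl,
      LinearMap.det_prodMap, hA, LinearMap.det_id, one_mul]
  · rw [show ((B.prodCongr (LinearEquiv.refl F W) : (V × W) ≃ₗ[F] V × W) : Module.End F (V × W)) =
      (B : Module.End F V).prodMap LinearMap.id from LinearMap.ext fun _ => rfl,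
      LinearMap.det_prodMap, hB, LinearMap.det_id, one_mul]
  · refine Prod.ext ?_ rfl
    exact hG x.1

theorem det_ne_zero_of_bijective [FiniteDimensional F V] {A : Module.End F V}
    (h : Function.Bijective A) : LinearMap.det A ≠ 0 :=
  (LinearEquiv.ofBijective A h).isUnit_det'.ne_zero

/-- If `G` is `L * M` with `M` conjugate to the inverse of `L`, `det L = 1` and the centralizer of
`L` has surjective determinant, then `G` is a commutator. -/
theorem isComm_of_mul [FiniteDimensional F V] (G L M : Module.End F V) (w : V ≃ₗ[F] V)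
    (hG : G = L * M) (hL : LinearMap.det L = 1) (hw : ∀ x, M (w (L x)) = w x)
    (hC : ∀ a : F, a ≠ 0 → ∃ C : Module.End F V, LinearMap.det C = a ∧ C * L = L * C) :
    IsComm G := by
  obtain ⟨C, hdC, hcC⟩ := hC (LinearMap.det (w : Module.End F V))⁻¹
    (inv_ne_zero w.isUnit_det'.ne_zero)
  let Ae : V ≃ₗ[F] V := L.equivOfDetNeZero (by rw [hL]; exact one_ne_zero)
  let Ce : V ≃ₗ[F] V := C.equivOfDetNeZero (by rw [hdC]; exact inv_ne_zero w.isUnit_det'.ne_zero)
  refine ⟨Ae, Ce.trans w, hL, ?_, fun x => ?_⟩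
  · show LinearMap.det ((w : Module.End F V) ∘ₗ C) = 1
    rw [LinearMap.det_comp, hdC, mul_inv_cancel₀ w.isUnit_det'.ne_zero]
  · obtain ⟨y, rfl⟩ := (Ce.trans w).surjective x
    rw [LinearEquiv.symm_apply_apply]
    obtain ⟨z, rfl⟩ := Ae.surjective y
    rw [LinearEquiv.symm_apply_apply, hG]
    show L (M (w (C (L z)))) = L (w (C z))
    have : C (L z) = L (C z) := LinearMap.congr_fun hcC z
    rw [this, hw]

section Triangular

variable {W1 W2 : Type*} [AddCommGroup W1] [Module F W1] [AddCommGroup W2] [Module F W2]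

/-- The lower triangular endomorphism. -/
def lower (A : Module.End F W1) (E : W1 →ₗ[F] W2) (B : Module.End F W2) : Module.End F (W1 × W2) :=
  (A ∘ₗ LinearMap.fst F W1 W2).prod (E ∘ₗ LinearMap.fst F W1 W2 + B ∘ₗ LinearMap.snd F W1 W2)

/-- The upper triangular endomorphism. -/
def upper (A : Module.End F W1) (E : W2 →ₗ[F] W1) (B : Module.End F W2) : Module.End F (W1 × W2) :=
  (A ∘ₗ LinearMap.fst F W1 W2 + E ∘ₗ LinearMap.snd F W1 W2).prod (B ∘ₗ LinearMap.snd F W1 W2)

@[simp] theorem lower_apply (A : Module.End F W1) (E : W1 →ₗ[F] W2) (B : Module.End F W2)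
    (x : W1 × W2) : lower A E B x = (A x.1, E x.1 + B x.2) := rfl

@[simp] theorem upper_apply (A : Module.End F W1) (E : W2 →ₗ[F] W1) (B : Module.End F W2)
    (x : W1 × W2) : upper A E B x = (A x.1 + E x.2, B x.2) := rfl

variable [FiniteDimensional F W1] [FiniteDimensional F W2]

theorem sim_lower (A : Module.End F W1) (E : W1 →ₗ[F] W2) (B : Module.End F W2)
    (h : ∀ S : W1 →ₗ[F] W2, S ∘ₗ A = B ∘ₗ S → S = 0) : Sim (lower A E B) (A.prodMap B) := by
  let Φ : (W1 →ₗ[F] W2) →ₗ[F] (W1 →ₗ[F] W2) :=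
    { toFun := fun S => B ∘ₗ S - S ∘ₗ A
      map_add' := fun S T => by ext x; simp; abel
      map_smul' := fun c S => by ext x; simp [smul_sub] }
  have hinj : Function.Injective Φ := by
    rw [← LinearMap.ker_eq_bot, Submodule.eq_bot_iff]
    intro S hS
    exact h S (sub_eq_zero.1 (LinearMap.mem_ker.1 hS)).symm
  obtain ⟨S, hS⟩ := LinearMap.injective_iff_surjective.1 hinj E
  let e : (W1 × W2) ≃ₗ[F] W1 × W2 :=
    { toFun := fun x => (x.1, x.2 + S x.1)
      map_add' := fun x y => by simp; abel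
      map_smul' := fun c x => by simp [smul_add]
      invFun := fun x => (x.1, x.2 - S x.1)
      left_inv := fun x => by simp
      right_inv := fun x => by simp }
  refine ⟨e, fun x => ?_⟩
  show ((A x.1, (E x.1 + B x.2) + S (A x.1)) : W1 × W2) = (A x.1, B (x.2 + S x.1))
  congr 1
  rw [← hS]
  simp [Φ]
  abel

theorem sim_upper (A : Module.End F W1) (E : W2 →ₗ[F] W1) (B : Module.End F W2)
    (h : ∀ S : W2 →ₗ[F] W1, S ∘ₗ B = A ∘ₗ S → S = 0) : Sim (upper A E B) (A.prodMap B) := by
  obtain ⟨e, he⟩ := sim_lower B E A h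
  refine ⟨(LinearEquiv.prodComm F W1 W2).trans (e.trans (LinearEquiv.prodComm F W2 W1)), fun x => ?_⟩
  have h1 := he (x.2, x.1)
  simp only [lower_apply, add_comm (E x.2)] at h1
  simp [h1]
  exact ⟨rfl, rfl⟩

theorem eq_zero_of_intertwine {A : Module.End F W1} {B : Module.End F W2} (ψ : F[X])
    (hA : Function.Bijective (aeval A ψ)) (hB : aeval B ψ = 0) (S : W1 →ₗ[F] W2)
    (hS : S ∘ₗ A = B ∘ₗ S) : S = 0 := by
  have key : ∀ (f : F[X]) (x : W1), S (aeval A f x) = aeval B f (S x) := by
    intro f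
    induction f using Polynomial.induction_on with
    | C a => intro x; simp [Module.algebraMap_end_apply]
    | add p q hp hq => intro x; simp [hp, hq]
    | monomial k a ih =>
      intro x
      rw [pow_succ, ← mul_assoc, map_mul (aeval A), map_mul (aeval B), Module.End.mul_apply,
        Module.End.mul_apply, ih, aeval_X, aeval_X]
      exact congrArg _ (LinearMap.congr_fun hS x)
  refine LinearMap.ext fun x => ?_
  obtain ⟨y, rfl⟩ := hA.2 x
  rw [key, hB]
  rfl

theorem eq_zero_of_intertwine' {A : Module.End F W1} {B : Module.End F W2} (ψ : F[X])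
    (hA : Function.Bijective (aeval A ψ)) (hB : aeval B ψ = 0) (S : W2 →ₗ[F] W1)
    (hS : S ∘ₗ B = A ∘ₗ S) : S = 0 := by
  have key : ∀ (f : F[X]) (x : W2), S (aeval B f x) = aeval A f (S x) := by
    intro f
    induction f using Polynomial.induction_on with
    | C a => intro x; simp [Module.algebraMap_end_apply]
    | add p q hp hq => intro x; simp [hp, hq]
    | monomial k a ih =>
      intro x
      rw [pow_succ, ← mul_assoc, map_mul (aeval A), map_mul (aeval B), Module.End.mul_apply,
        Module.End.mul_apply, ih, aeval_X, aeval_X]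
      exact congrArg _ (LinearMap.congr_fun hS x)
  refine LinearMap.ext fun x => hA.1 ?_
  rw [← key, hB]
  simp

/-- The block criterion: `G` has the shape `[[X1 Z1, Q], [Rr, Om]]` with Schur complement `X2 Z2`. -/
theorem isComm_of_blocks (X1 Z1 : Module.End F W1) (X2 Z2 : Module.End F W2)
    (w1 : W1 ≃ₗ[F] W1) (w2 : W2 ≃ₗ[F] W2)
    (h1 : ∀ x, Z1 (w1 (X1 x)) = w1 x) (h2 : ∀ x, Z2 (w2 (X2 x)) = w2 x)
    (ψ : F[X]) (hψ1 : Function.Bijective (aeval X1 ψ)) (hψ2 : aeval X2 ψ = 0)
    (hdet : LinearMap.det X1 * LinearMap.det X2 = 1)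
    (hC : ∀ a : F, a ≠ 0 → ∃ C : Module.End F W2, LinearMap.det C = a ∧ C * X2 = X2 * C)
    (E : W1 →ₗ[F] W2) (M : W2 →ₗ[F] W1) :
    IsComm (lower X1 E X2 * upper Z1 M Z2) := by
  obtain ⟨eL, heL⟩ := sim_lower X1 E X2 fun S hS => eq_zero_of_intertwine ψ hψ1 hψ2 S hS
  obtain ⟨eU, heU⟩ := sim_upper Z1 M Z2 fun S hS => by
    have h1' : X1 ∘ₗ (w1.symm.toLinearMap ∘ₗ S ∘ₗ w2.toLinearMap) =
        (w1.symm.toLinearMap ∘ₗ S ∘ₗ w2.toLinearMap) ∘ₗ X2 := by
      refine LinearMap.ext fun x => ?_
      have e1 : S (w2 x) = Z1 (S (w2 (X2 x))) := by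
        rw [← h2 x]; exact LinearMap.congr_fun hS (w2 (X2 x))
      obtain ⟨y, hy⟩ := w1.surjective (S (w2 (X2 x)))
      have hX1 : Function.Surjective X1 := LinearMap.injective_iff_surjective.1 (fun a b hab => by
        have := congrArg (fun v => Z1 (w1 v)) hab
        simpa [h1] using this)
      obtain ⟨z, rfl⟩ := hX1 y
      simp only [LinearMap.comp_apply, LinearEquiv.coe_coe]
      rw [← hy, LinearEquiv.symm_apply_apply, e1, ← hy, h1, LinearEquiv.symm_apply_apply]
    have h0 := eq_zero_of_intertwine' ψ hψ1 hψ2 _ h1'.symm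
    refine LinearMap.ext fun x => ?_
    obtain ⟨y, rfl⟩ := w2.surjective x
    have := LinearMap.congr_fun h0 y
    simpa using congrArg w1 this
  refine isComm_of_mul _ (lower X1 E X2) (upper Z1 M Z2)
    (eL.trans ((w1.prodCongr w2).trans eU.symm)) rfl ?_ (fun x => eU.injective ?_) ?_
  · rw [(show Sim (lower X1 E X2) (X1.prodMap X2) from ⟨eL, heL⟩).det_eq, LinearMap.det_prodMap, hdet]
  · rw [heU]
    simp only [LinearEquiv.trans_apply, LinearEquiv.apply_symm_apply, heL]
    refine Prod.ext ?_ ?_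
    · exact h1 _
    · exact h2 _
  · intro a ha
    obtain ⟨C, hC1, hC2⟩ := hC a ha
    refine ⟨eL.symm.conj ((LinearMap.id : Module.End F W1).prodMap C), ?_, LinearMap.ext fun x => eL.injective ?_⟩
    · rw [det_conj', LinearMap.det_prodMap, LinearMap.det_id, one_mul, hC1]
    · simp only [Module.End.mul_apply, LinearEquiv.conj_apply, LinearMap.comp_apply, LinearEquiv.coe_coe,
        LinearEquiv.symm_symm, heL, LinearEquiv.apply_symm_apply]
      refine Prod.ext rfl ?_
      exact LinearMap.congr_fun hC2 _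

end Triangular

/-- Translate to matrices. -/
theorem exists_SL_commutator {n : ℕ} (g : Matrix.SpecialLinearGroup (Fin n) F)
    (h : IsComm (Matrix.toLin' (g : Matrix (Fin n) (Fin n) F))) :
    ∃ a b : Matrix.SpecialLinearGroup (Fin n) F, g = a * b * a⁻¹ * b⁻¹ := by
  obtain ⟨A, B, hA, hB, hg⟩ := h
  let a : Matrix.SpecialLinearGroup (Fin n) F :=
    ⟨LinearMap.toMatrix' (A : Module.End F (Fin n → F)), by rw [LinearMap.det_toMatrix', hA]⟩
  let b : Matrix.SpecialLinearGroup (Fin n) F :=
    ⟨LinearMap.toMatrix' (B : Module.End F (Fin n → F)), by rw [LinearMap.det_toMatrix', hB]⟩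
  refine ⟨a, b, ?_⟩
  rw [eq_mul_inv_iff_mul_eq, eq_mul_inv_iff_mul_eq]
  apply Subtype.ext
  apply Matrix.toLin'.injective
  have ha : Matrix.toLin' (a : Matrix (Fin n) (Fin n) F) = (A : Module.End F (Fin n → F)) :=
    Matrix.toLin'_toMatrix' _
  have hb : Matrix.toLin' (b : Matrix (Fin n) (Fin n) F) = (B : Module.End F (Fin n → F)) :=
    Matrix.toLin'_toMatrix' _
  refine LinearMap.ext fun x => ?_
  rw [Matrix.SpecialLinearGroup.coe_mul, Matrix.SpecialLinearGroup.coe_mul,
    Matrix.SpecialLinearGroup.coe_mul, Matrix.toLin'_mul, Matrix.toLin'_mul, Matrix.toLin'_mul, ha, hb]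
  simp only [LinearMap.comp_apply, LinearEquiv.coe_coe]
  rw [hg]
  simp

end CfsgLib.SLComm
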