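import Cfsg.Agent.Lib.SLComm.Cases
import Cfsg.Agent.Lib.ClassNum.Decomp

/-! Every element of the special linear group over a finite field is a commutator. -/

set_option autoImplicit false

namespace CfsgLib.SLComm

open Module Polynomial CfsgLib.ClassNum

variable {F : Type*} [Field F]

theorem Decomp.sim {n : ℕ} {g : Matrix (Fin n) (Fin n) F} (D : Decomp g) :
    Sim (Matrix.toLin' g) (piEnd fun i => xi (D.p i ^ D.e i)) :=
  ⟨D.iso, fun x => funext fun i => by
    rw [Matrix.toLin'_apply, D.iso_mulVec, piEnd_apply, mulBy_apply, AdjoinRoot.mk_X]⟩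

theorem exists_commutator [Finite F] {n : ℕ} (hn : 2 ≤ n) (hex : n = 2 → 4 ≤ Nat.card F)
    (g : Matrix.SpecialLinearGroup (Fin n) F) :
    ∃ a b : Matrix.SpecialLinearGroup (Fin n) F, g = a * b * a⁻¹ * b⁻¹ := by
  obtain ⟨D⟩ := exists_decomp (g : Matrix (Fin n) (Fin n) F)
  refine exists_SL_commutator g ((isComm_piEnd (p := fun i => D.p i ^ D.e i) ⟨fun i => (D.monic i).pow _,
    fun i => ?_, ?_⟩ ?_ ?_).sim (Decomp.sim D).symm')
  · rw [natDegree_pow]; exact Nat.mul_pos (D.pos i) (D.irred i).natDegree_pos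
  · rw [← (Decomp.sim D).det_eq, LinearMap.det_toLin', g.2]
  all_goals simp only [natDegree_pow, D.sum_eq]
  exacts [hn, hex]

end CfsgLib.SLComm
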