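import Cfsg.Agent.Lib.SLComm.Endo
import Mathlib.LinearAlgebra.Charpoly.Basic

/-! Cyclic tops and the splitting of a companion block into top and corner. -/

set_option autoImplicit false

namespace CfsgLib.SLComm

open Module Polynomial CfsgLib.ClassNum

variable {F : Type*} [Field F]

/-- Multiplication by the variable on `F[X]/(P)`. -/
noncomputable abbrev xi (P : F[X]) : Module.End F (AdjoinRoot P) := mulBy P X

/-- Reduced representatives. -/
noncomputable def rep {P : F[X]} (hP : P.Monic) : AdjoinRoot P →ₗ[F] F[X] :=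
  AdjoinRoot.modByMonicHom hP

theorem rep_mk {P : F[X]} (hP : P.Monic) (g : F[X]) : rep hP (AdjoinRoot.mk P g) = g %ₘ P :=
  AdjoinRoot.modByMonicHom_mk hP g

theorem mk_rep {P : F[X]} (hP : P.Monic) (x : AdjoinRoot P) : AdjoinRoot.mk P (rep hP x) = x :=
  AdjoinRoot.mk_leftInverse hP x

theorem degree_rep_lt {P : F[X]} (hP : P.Monic) (x : AdjoinRoot P) : (rep hP x).degree < P.degree := by
  obtain ⟨g, rfl⟩ := AdjoinRoot.mk_surjective x
  rw [rep_mk]; exact degree_modByMonic_lt g hP

theorem aeval_eq_of_dvd_sub {V : Type*} [AddCommGroup V] [Module F V] (G : Module.End F V)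
    {P : F[X]} (hG : aeval G P = 0) {f g : F[X]} (h : P ∣ f - g) : aeval G f = aeval G g := by
  obtain ⟨c, hc⟩ := h
  rw [← sub_eq_zero, ← map_sub, hc, map_mul, hG, zero_mul]

/-- A cyclic endomorphism is multiplication by the variable modulo a monic polynomial. -/
theorem sim_xi_of_cyclic {V : Type*} [AddCommGroup V] [Module F V] [FiniteDimensional F V]
    (G : Module.End F V) (v : V)
    (hv : ∀ S : Submodule F V, v ∈ S → (∀ x ∈ S, G x ∈ S) → S = ⊤) :
    ∃ R : F[X], R.Monic ∧ R.natDegree = finrank F V ∧ Sim (xi R) G := by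
  refine ⟨G.charpoly, G.charpoly_monic, G.charpoly_natDegree, ?_⟩
  have hR := G.charpoly_monic
  let Φ : AdjoinRoot G.charpoly →ₗ[F] V :=
    (LinearMap.applyₗ v).comp ((aeval G).toLinearMap.comp (rep hR))
  have hΦ : ∀ f, Φ (AdjoinRoot.mk _ f) = aeval G f v := by
    intro f
    show aeval G (rep hR (AdjoinRoot.mk _ f)) v = _
    rw [rep_mk, aeval_eq_of_dvd_sub G G.aeval_self_charpoly]
    rw [modByMonic_eq_sub_mul_div]
    exact ⟨-(f /ₘ G.charpoly), by ring⟩
  have hGΦ : ∀ x, Φ (xi G.charpoly x) = G (Φ x) := by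
    intro x
    obtain ⟨f, rfl⟩ := AdjoinRoot.mk_surjective x
    rw [mulBy_apply, ← map_mul, hΦ, hΦ, map_mul, aeval_X]
    rfl
  have hsurj : Function.Surjective Φ := by
    rw [← LinearMap.range_eq_top]
    refine hv _ ⟨AdjoinRoot.mk _ 1, by rw [hΦ]; simp⟩ ?_
    rintro _ ⟨x, rfl⟩
    exact ⟨_, hGΦ x⟩
  have := finiteDimensional_adjoinRoot hR
  have hd : finrank F (AdjoinRoot G.charpoly) = finrank F V := by
    rw [finrank_adjoinRoot hR, LinearMap.charpoly_natDegree]
  exact ⟨LinearEquiv.ofBijective Φ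
    ⟨(LinearMap.injective_iff_surjective_of_finrank_eq_finrank hd).2 hsurj, hsurj⟩, hGΦ⟩

theorem det_xi {P : F[X]} (hP : P.Monic) :
    LinearMap.det (xi P) = (-1) ^ P.natDegree * P.coeff 0 := by
  rw [det_mulBy_eq_norm, norm_mk_X hP]

theorem bijective_xi {P : F[X]} (hP : P.Monic) (h0 : P.coeff 0 ≠ 0) :
    Function.Bijective (xi P) := by
  have hco : IsCoprime (X : F[X]) P :=
    irreducible_X.coprime_iff_not_dvd.2 fun h => h0 (X_dvd_iff.1 h)
  obtain ⟨u, hu⟩ := isUnit_mk_of_isCoprime hco
  refine ⟨fun x y hxy => ?_, fun y => ⟨(↑u⁻¹ : AdjoinRoot P) * y, ?_⟩⟩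
  · rw [mulBy_apply, mulBy_apply, ← hu] at hxy
    exact u.mul_right_inj.1 hxy
  · rw [mulBy_apply, ← hu, Units.mul_inv_cancel_left]

theorem aeval_xi (P f : F[X]) : aeval (xi P) f = mulBy P f := by
  induction f using Polynomial.induction_on with
  | C a =>
    refine LinearMap.ext fun x => ?_
    rw [aeval_C, Module.algebraMap_end_apply, mulBy_apply, AdjoinRoot.mk_C, Algebra.smul_def]
    rfl
  | add p q hp hq =>
    refine LinearMap.ext fun x => ?_
    simp [map_add, hp, hq, mulBy_apply, add_mul]
  | monomial k a ih =>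
    rw [pow_succ, ← mul_assoc, map_mul, aeval_X, ih]
    refine LinearMap.ext fun x => ?_
    simp [mulBy_apply, map_mul, mul_assoc]

theorem Sim.aeval_bijective {V W : Type*} [AddCommGroup V] [Module F V] [AddCommGroup W] [Module F W]
    {A : Module.End F V} {B : Module.End F W} (h : Sim A B) (f : F[X])
    (hA : Function.Bijective (aeval A f)) : Function.Bijective (aeval B f) := by
  obtain ⟨e, he⟩ := h
  have key : ∀ (g : F[X]) x, e (aeval A g x) = aeval B g (e x) := by
    intro g
    induction g using Polynomial.induction_on with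
    | C a => intro x; simp [Module.algebraMap_end_apply]
    | add p q hp hq => intro x; simp [hp, hq]
    | monomial k a ih =>
      intro x
      rw [pow_succ, ← mul_assoc, map_mul (aeval A), map_mul (aeval B), Module.End.mul_apply,
        Module.End.mul_apply, ih, aeval_X, aeval_X, he]
  have : ⇑(aeval B f) = e ∘ aeval A f ∘ e.symm := by
    funext y
    simp [key]
  rw [this]
  exact e.bijective.comp (hA.comp e.symm.bijective)

theorem bijective_mulBy_of_isCoprime {P h : F[X]} (hco : IsCoprime h P) :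
    Function.Bijective (mulBy P h) := by
  obtain ⟨u, hu⟩ := isUnit_mk_of_isCoprime hco
  refine ⟨fun x y hxy => ?_, fun y => ⟨(↑u⁻¹ : AdjoinRoot P) * y, ?_⟩⟩
  · rw [mulBy_apply, mulBy_apply, ← hu] at hxy
    exact u.mul_right_inj.1 hxy
  · rw [mulBy_apply, ← hu, Units.mul_inv_cancel_left]

/-- For every monic `f` there is a cyclic top of determinant one which is a quotient of two
elements similar to the companion of `f`. -/
theorem exists_top {f : F[X]} (hf : f.Monic) (h0 : f.coeff 0 ≠ 0) :
    ∃ R : F[X], R.Monic ∧ R.natDegree = f.natDegree ∧ LinearMap.det (xi R) = 1 ∧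
      ∃ (X1 Z1 : Module.End F (AdjoinRoot R)) (w : AdjoinRoot R ≃ₗ[F] AdjoinRoot R),
        xi R = X1 * Z1 ∧ (∀ x, Z1 (w (X1 x)) = w x) ∧ Sim (xi f) X1 := by
  have := finiteDimensional_adjoinRoot hf
  let A : AdjoinRoot f ≃ₗ[F] AdjoinRoot f := LinearEquiv.ofBijective (xi f) (bijective_xi hf h0)
  have hA : ∀ x, A x = xi f x := fun x => rfl
  let sub : F → (AdjoinRoot f →ₗ[F] AdjoinRoot f) := fun c =>
    (AdjoinRoot.mkₐ f).toLinearMap.comp ((aeval (X + C c : F[X])).toLinearMap.comp (rep hf))
  have hsub : ∀ (c : F) (g : F[X]), g.degree < f.degree →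
      sub c (AdjoinRoot.mk f g) = AdjoinRoot.mk f (g.comp (X + C c)) := by
    intro c g hg
    show AdjoinRoot.mk f (aeval (X + C c : F[X]) (rep hf (AdjoinRoot.mk f g))) = _
    rw [rep_mk, (modByMonic_eq_self_iff hf).2 hg]
    rfl
  have hdeg : ∀ (c : F) (g : F[X]), g.degree < f.degree → (g.comp (X + C c)).degree < f.degree := by
    intro c g hg
    rwa [← taylor_apply, degree_taylor]
  have hinv : ∀ c x, sub (-c) (sub c x) = x := by
    intro c x
    conv_rhs => rw [← mk_rep hf x]
    conv_lhs => rw [← mk_rep hf x]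
    rw [hsub c _ (degree_rep_lt hf x), hsub (-c) _ (hdeg c _ (degree_rep_lt hf x)), comp_assoc]
    congr 1
    simp [comp_assoc]
  let τ : AdjoinRoot f ≃ₗ[F] AdjoinRoot f :=
    { sub (-1) with
      invFun := sub 1
      left_inv := fun x => by simpa using hinv (-1) x
      right_inv := fun x => hinv 1 x }
  let B : AdjoinRoot f ≃ₗ[F] AdjoinRoot f := τ.trans (A.trans τ.symm)
  have hB : ∀ i, i + 1 < f.natDegree →
      B (AdjoinRoot.mk f (X ^ i)) = AdjoinRoot.mk f (X ^ i) + AdjoinRoot.mk f (X ^ (i + 1)) := by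
    intro i hi
    have hlt : ∀ g : F[X], g.natDegree < f.natDegree → g.degree < f.degree := fun g hg =>
      degree_lt_degree hg
    show sub 1 (xi f (sub (-1) (AdjoinRoot.mk f (X ^ i)))) = _
    rw [hsub _ _ (hlt _ (by rw [natDegree_X_pow]; omega)), mulBy_apply, ← map_mul, hsub _ _ ?_]
    · rw [← map_add]
      congr 1
      simp [pow_succ]
      ring
    · refine hlt _ (lt_of_le_of_lt natDegree_mul_le ?_)
      rw [natDegree_X, natDegree_comp, natDegree_X_pow, natDegree_X_add_C]
      omega
  let G : Module.End F (AdjoinRoot f) := (B : Module.End F (AdjoinRoot f)) * (A.symm : Module.End F (AdjoinRoot f))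
  have hG : ∀ i, i + 1 < f.natDegree →
      G (AdjoinRoot.mk f (X ^ (i + 1))) = AdjoinRoot.mk f (X ^ i) + AdjoinRoot.mk f (X ^ (i + 1)) := by
    intro i hi
    rw [← hB i hi]
    show B (A.symm _) = _
    congr 1
    rw [LinearEquiv.symm_apply_eq, hA, mulBy_apply, ← map_mul, pow_succ']
  obtain ⟨R, hR, hRdeg, hsim⟩ := sim_xi_of_cyclic G (AdjoinRoot.mk f (X ^ (f.natDegree - 1))) (by
    intro S hv hS
    have hall : ∀ k i, i + k + 1 = f.natDegree → AdjoinRoot.mk f (X ^ i) ∈ S := by
      intro k
      induction k with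
      | zero => intro i hi; convert hv using 3; omega
      | succ k ih =>
        intro i hi
        have h1 := ih (i + 1) (by omega)
        have h2 := S.sub_mem (hS _ h1) h1
        rwa [hG i (by omega), add_sub_cancel_right] at h2
    rw [eq_top_iff]
    intro x _
    rw [← mk_rep hf x, as_sum_range_C_mul_X_pow (rep hf x), map_sum]
    refine S.sum_mem fun i hi => ?_
    rw [map_mul, AdjoinRoot.mk_C, ← AdjoinRoot.algebraMap_eq, ← Algebra.smul_def]
    by_cases hne : rep hf x = 0
    · simp [hne]
    · refine S.smul_mem _ (hall (f.natDegree - 1 - i) i ?_)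
      have := natDegree_lt_natDegree hne (degree_rep_lt hf x)
      have := Finset.mem_range.1 hi
      omega)
  have hdet : LinearMap.det G = 1 := by
    rw [map_mul]
    have hBA : LinearMap.det (B : Module.End F (AdjoinRoot f)) = LinearMap.det (A : Module.End F (AdjoinRoot f)) := by
      rw [← det_conj' τ.symm (A : Module.End F (AdjoinRoot f))]
      rfl
    rw [hBA, ← LinearMap.det_comp]
    simp
  refine ⟨R, hR, by rw [hRdeg, finrank_adjoinRoot hf], by rw [hsim.det_eq, hdet], ?_⟩
  obtain ⟨e, he⟩ := hsim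
  refine ⟨e.symm.conj (B : Module.End F (AdjoinRoot f)), e.symm.conj (A.symm : Module.End F (AdjoinRoot f)),
    e.trans (τ.trans e.symm), ?_, fun x => ?_, ?_⟩
  · refine LinearMap.ext fun x => e.injective ?_
    rw [he]
    simp [LinearEquiv.conj_apply, G]
  · apply e.injective
    simp [LinearEquiv.conj_apply, B]
  · refine ⟨τ.symm.trans e.symm, fun x => e.injective ?_⟩
    simp [LinearEquiv.conj_apply, B, hA]

section Split

variable {p R : F[X]}

/-- The corner entry. -/
noncomputable def omega' (p R : F[X]) : F := R.nextCoeff - p.nextCoeff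

/-- The last column. -/
noncomputable def qVec (p R : F[X]) : AdjoinRoot R := AdjoinRoot.mk R (-p)

/-- The last row. -/
noncomputable def rhoRow (hR : R.Monic) : AdjoinRoot R →ₗ[F] F :=
  (lcoeff F (R.natDegree - 1)).comp (rep hR)

theorem natDegree_eq_coeff_rep (hR : R.Monic) (x : AdjoinRoot R) :
    rep hR x = 0 ∨ (rep hR x).natDegree < R.natDegree := by
  by_cases h : rep hR x = 0
  · exact Or.inl h
  · exact Or.inr (natDegree_lt_natDegree h (degree_rep_lt hR x))

theorem mod_eq_of_sub_mul (hR : R.Monic) {g r c : F[X]} (hgr : g = r + c * R)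
    (hr : r.degree < R.degree) : g %ₘ R = r := by
  subst hgr
  rw [add_modByMonic, (modByMonic_eq_self_iff hR).2 hr,
    (modByMonic_eq_zero_iff_dvd hR).2 (dvd_mul_left R c), add_zero]

theorem degree_lt_of_coeff (hR : R.Monic) {g : F[X]} (h : ∀ k, R.natDegree ≤ k → g.coeff k = 0) :
    g.degree < R.degree := by
  rw [degree_eq_natDegree hR.ne_zero, degree_lt_iff_coeff_zero]
  exact h

theorem X_mul_rep (hR : R.Monic) (x : AdjoinRoot R) :
    X * rep hR x = rep hR (xi R x) + C (rhoRow hR x) * R := by
  have hr : (X * rep hR x - C (rhoRow hR x) * R).degree < R.degree := by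
    refine degree_lt_of_coeff hR fun k hk => ?_
    rw [coeff_sub, coeff_C_mul]
    rcases Nat.eq_zero_or_pos k with rfl | hk0
    · rcases natDegree_eq_coeff_rep hR x with h | h
      · simp [rhoRow, h]
      · omega
    obtain ⟨j, rfl⟩ := Nat.exists_eq_add_of_le' hk0
    rw [coeff_X_mul]
    have hzero : ∀ i, R.natDegree ≤ i → (rep hR x).coeff i = 0 := by
      intro i hi
      rcases natDegree_eq_coeff_rep hR x with h | h
      · simp [h]
      · exact coeff_eq_zero_of_natDegree_lt (by omega)
    rcases Nat.eq_or_lt_of_le hk with h | h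
    · rw [← h, hR.coeff_natDegree]
      simp [rhoRow, h]
    · rw [hzero j (by omega), coeff_eq_zero_of_natDegree_lt h]
      simp
  have h1 : rep hR (xi R x) = X * rep hR x - C (rhoRow hR x) * R := by
    conv_lhs => rw [← mk_rep hR x, mulBy_apply, ← map_mul, rep_mk]
    exact mod_eq_of_sub_mul hR (c := C (rhoRow hR x)) (by ring) hr
  rw [h1]; ring

theorem X_mul_R (hp : p.Monic) (hR : R.Monic) (hdeg : p.natDegree = R.natDegree + 1) :
    X * R = rep hR (qVec p R) + C (omega' p R) * R + p := by
  have hr : (X * R - p - C (omega' p R) * R).degree < R.degree := by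
    refine degree_lt_of_coeff hR fun k hk => ?_
    rw [coeff_sub, coeff_sub, coeff_C_mul]
    rcases Nat.eq_or_lt_of_le hk with h | h
    · subst h
      rw [hR.coeff_natDegree, omega',
        show p.nextCoeff = p.coeff R.natDegree by
          rw [nextCoeff_of_natDegree_pos (p := p) (by omega), hdeg, Nat.add_sub_cancel]]
      rcases Nat.eq_zero_or_pos R.natDegree with h0 | h0
      · rw [h0]
        simp [nextCoeff, h0]
      · rw [nextCoeff_of_natDegree_pos h0]
        obtain ⟨j, hj⟩ := Nat.exists_eq_add_of_le' h0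
        rw [hj, coeff_X_mul]
        simp
    · obtain ⟨j, rfl⟩ := Nat.exists_eq_add_of_le' (Nat.lt_of_le_of_lt (Nat.zero_le _) h)
      rw [coeff_X_mul, coeff_eq_zero_of_natDegree_lt h]
      rcases Nat.eq_or_lt_of_le h with h' | h'
      · have : j = R.natDegree := by omega
        subst this
        rw [hR.coeff_natDegree, ← hdeg, hp.coeff_natDegree]
        simp
      · rw [coeff_eq_zero_of_natDegree_lt (show R.natDegree < j by omega),
          coeff_eq_zero_of_natDegree_lt (show p.natDegree < j + 1 by omega)]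
        simp
  have h1 : rep hR (qVec p R) = X * R - p - C (omega' p R) * R := by
    rw [qVec, rep_mk]
    exact mod_eq_of_sub_mul hR (c := C (omega' p R) - X) (by ring) hr
  rw [h1]; ring

end Split

end CfsgLib.SLComm
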